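import Cfsg.Agent.Lib.Fusion.Alperin
import Mathlib.GroupTheory.Nilpotent
import Mathlib.GroupTheory.Commutator.Basic
import Mathlib.GroupTheory.PGroup

/-!
# p-groups with a unique abelian subgroup of index p
-/

set_option autoImplicit false
set_option linter.unusedSectionVars false
set_option linter.style.haveILetI false

namespace Cfsg.Agent.AbelianIndexP

open Cfsg
open Cfsg.FusionSystem (normalizerIn centralizerIn)
open scoped commutatorElement Pointwise

variable {Ω : Type*} [Group Ω]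

/-- The centre of `S`, as a subgroup of the ambient group. -/
abbrev ctr (S : Subgroup Ω) : Subgroup Ω := S ⊓ Subgroup.centralizer (S : Set Ω)

/-- The second centre of `S`, as a subgroup of the ambient group. -/
abbrev ctr2 (S : Subgroup Ω) : Subgroup Ω := (Subgroup.upperCentralSeries ↥S 2).map S.subtype

theorem ctr_comm {S : Subgroup Ω} {z s : Ω} (hz : z ∈ ctr S) (hs : s ∈ S) : s * z = z * s :=
  Subgroup.mem_centralizer_iff.mp hz.2 s hs

theorem ctr_conj {S : Subgroup Ω} {z s : Ω} (hz : z ∈ ctr S) (hs : s ∈ S) : s * z * s⁻¹ = z := by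
  rw [ctr_comm hz hs, mul_inv_cancel_right]

theorem mem_center_subtype {S : Subgroup Ω} {s : S} :
    s ∈ Subgroup.center ↥S ↔ (s : Ω) ∈ ctr S := by
  rw [Subgroup.mem_center_iff]
  exact ⟨fun h => ⟨s.2, Subgroup.mem_centralizer_iff.mpr fun t ht => congrArg Subtype.val (h ⟨t, ht⟩)⟩,
    fun h t => Subtype.ext (ctr_comm h t.2)⟩

theorem mem_ctr2 {S : Subgroup Ω} {g : Ω} :
    g ∈ ctr2 S ↔ g ∈ S ∧ ∀ t ∈ S, ⁅g, t⁆ ∈ ctr S := by
  constructor
  · rintro ⟨s, hs, rfl⟩
    refine ⟨s.2, fun t ht => ?_⟩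
    have h := Subgroup.mem_upperCentralSeries_succ_iff.mp hs ⟨t, ht⟩
    rw [Subgroup.upperCentralSeries_one, mem_center_subtype] at h
    exact h
  · rintro ⟨hg, h⟩
    refine ⟨⟨g, hg⟩, Subgroup.mem_upperCentralSeries_succ_iff.mpr fun t => ?_, rfl⟩
    rw [Subgroup.upperCentralSeries_one, mem_center_subtype]
    exact h t t.2

theorem ctr_le_ctr2 (S : Subgroup Ω) : ctr S ≤ ctr2 S := fun z hz => by
  refine mem_ctr2.mpr ⟨hz.1, fun t ht => ?_⟩
  rw [commutatorElement_eq_one_iff_mul_comm.mpr (ctr_comm hz ht).symm]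
  exact one_mem _

/-- The subgroup generated by the commutators with a fixed element. -/
def img (x : Ω) (B : Subgroup Ω) : Subgroup Ω := Subgroup.closure {y | ∃ a ∈ B, ⁅a, x⁆ = y}

instance finite_ctr (S : Subgroup Ω) [Finite S] : Finite ↥(ctr S) :=
  Fusion.finite_of_le inf_le_left

theorem comm_mem_img {x a : Ω} {B : Subgroup Ω} (h : a ∈ B) : ⁅a, x⁆ ∈ img x B :=
  Subgroup.subset_closure ⟨a, h, rfl⟩

theorem img_mono {x : Ω} {B C : Subgroup Ω} (h : B ≤ C) : img x B ≤ img x C :=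
  Subgroup.closure_mono fun _ ⟨a, ha, e⟩ => ⟨a, h ha, e⟩

theorem card_subgroupOf {H K : Subgroup Ω} :
    Nat.card (H.subgroupOf K) = Nat.card (H ⊓ K : Subgroup Ω) := by
  rw [← Subgroup.inf_subgroupOf_right,
    Nat.card_congr (Subgroup.subgroupOfEquivOfLe (inf_le_right : H ⊓ K ≤ K)).toEquiv]

/-- `A` is the unique abelian subgroup of index `p` of the nonabelian `p`-group `S`. -/
structure Setup (p : ℕ) (S A : Subgroup Ω) : Prop where
  pS : IsPGroup p S
  le : A ≤ S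
  comm : ∀ a ∈ A, ∀ b ∈ A, a * b = b * a
  index : (A.subgroupOf S).index = p
  uniq : ∀ B : Subgroup Ω, B ≤ S → IsMulCommutative ↥B → (B.subgroupOf S).index = p → B = A
  nab : ¬ IsMulCommutative ↥S

theorem comm_of_isMulCommutative {A : Subgroup Ω} (h : IsMulCommutative ↥A) :
    ∀ a ∈ A, ∀ b ∈ A, a * b = b * a := fun a ha b hb =>
  congrArg Subtype.val (mul_comm' (⟨a, ha⟩ : A) ⟨b, hb⟩)

theorem isMulCommutative_of_comm {A : Subgroup Ω} (h : ∀ a ∈ A, ∀ b ∈ A, a * b = b * a) :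
    IsMulCommutative ↥A :=
  ⟨⟨fun a b => Subtype.ext (h a a.2 b b.2)⟩⟩

variable {p : ℕ} [hp : Fact p.Prime] {S A : Subgroup Ω} [Finite S] (h : Setup p S A)

include h

omit hp in
theorem finite_A : Finite A := Fusion.finite_of_le h.le

omit hp in
theorem card_S : Nat.card S = p * Nat.card A := by
  rw [← Subgroup.card_mul_index (A.subgroupOf S), card_subgroupOf, inf_eq_left.mpr h.le, h.index, mul_comm]

theorem A_lt : A < S := lt_of_le_of_ne h.le fun e => by
  have := card_S h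
  rw [e] at this
  exact hp.out.ne_one (Nat.eq_of_mul_eq_mul_right Nat.card_pos (this.symm.trans (one_mul _).symm))

/-- A subgroup properly containing `A` is `S`. -/
theorem eq_of_A_lt {K : Subgroup Ω} (hA : A < K) (hK : K ≤ S) : K = S := by
  haveI := Fusion.finite_of_le hK
  obtain ⟨c, hc⟩ := Subgroup.card_dvd_of_le hA.le
  have hd : c ∣ p := by
    have hdK := Subgroup.card_dvd_of_le hK
    rw [hc, card_S h, mul_comm p] at hdK
    haveI := finite_A h
    exact Nat.dvd_of_mul_dvd_mul_left Nat.card_pos hdK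
  rcases (Nat.dvd_prime hp.out).mp hd with rfl | rfl
  · exact absurd (Subgroup.eq_of_le_of_card_ge hA.le (by rw [hc, mul_one])) hA.ne
  · exact Subgroup.eq_of_le_of_card_ge hK (by rw [hc, card_S h, mul_comm])

theorem le_normalizer : S ≤ Subgroup.normalizer (A : Set Ω) := by
  rw [← eq_of_A_lt h (Fusion.lt_normalizerIn h.pS (A_lt h)) (Fusion.normalizerIn_le S A)]
  exact inf_le_right

theorem conj_mem_A {a s : Ω} (hs : s ∈ S) (ha : a ∈ A) : s * a * s⁻¹ ∈ A :=
  Fusion.conj_mem_of_mem_normalizer (le_normalizer h hs) ha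

theorem exists_eq {x : Ω} (hx : x ∈ S) (hxA : x ∉ A) {s : Ω} (hs : s ∈ S) :
    ∃ a ∈ A, ∃ n : ℕ, s = a * x ^ n := by
  have hK : A ⊔ Subgroup.zpowers x = S := eq_of_A_lt h
    (lt_of_le_of_ne le_sup_left fun e => hxA (e ▸ Subgroup.mem_sup_right (Subgroup.mem_zpowers x)))
    (sup_le h.le (Subgroup.zpowers_le.mpr hx))
  have hs' : s ∈ (A : Set Ω) * (Subgroup.zpowers x : Set Ω) := by
    rw [← Subgroup.coe_mul_of_right_le_normalizer_left A (Subgroup.zpowers x)
      (Subgroup.zpowers_le.mpr (le_normalizer h hx)), hK]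
    exact hs
  obtain ⟨a, ha, y, hy, rfl⟩ := hs'
  have hfin : IsOfFinOrder x := by
    have := (isOfFinOrder_of_finite (⟨x, hx⟩ : S))
    exact (MonoidHom.isOfFinOrder S.subtype this)
  obtain ⟨n, rfl⟩ := hfin.mem_powers_iff_mem_zpowers.mpr hy
  exact ⟨a, ha, n, rfl⟩

theorem mem_ctr_of_comm {x : Ω} (hx : x ∈ S) (hxA : x ∉ A) {a : Ω} (ha : a ∈ A)
    (hc : a * x = x * a) : a ∈ ctr S := by
  refine ⟨h.le ha, Subgroup.mem_centralizer_iff.mpr fun s hs => ?_⟩
  obtain ⟨b, hb, n, rfl⟩ := exists_eq h hx hxA hs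
  have h1 : a * x ^ n = x ^ n * a := (Commute.pow_right hc n).eq
  rw [mul_assoc, ← h1, ← mul_assoc, h.comm b hb a ha, mul_assoc]

theorem ctr_le : ctr S ≤ A := by
  intro z hz
  by_contra hzA
  refine h.nab (isMulCommutative_of_comm fun s hs t ht => ?_)
  obtain ⟨a, ha, n, rfl⟩ := exists_eq h hz.1 hzA hs
  obtain ⟨b, hb, m, rfl⟩ := exists_eq h hz.1 hzA ht
  have hzn : ∀ (k : ℕ) (u : Ω), u ∈ A → z ^ k * u = u * z ^ k := fun k u hu =>
    ((show Commute u z from ctr_comm hz (h.le hu)).pow_right k).eq.symm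
  calc a * z ^ n * (b * z ^ m) = a * (z ^ n * b) * z ^ m := by group
    _ = (a * b) * (z ^ n * z ^ m) := by rw [hzn n b hb]; group
    _ = (b * a) * (z ^ m * z ^ n) := by rw [h.comm a ha b hb, ← pow_add, ← pow_add, add_comm]
    _ = b * (a * z ^ m) * z ^ n := by group
    _ = b * z ^ m * (a * z ^ n) := by rw [← hzn m a ha]; group

theorem card_eq_mul_inf {H : Subgroup Ω} (hH : H ≤ S) (hHA : ¬ H ≤ A) :
    Nat.card H = p * Nat.card (A ⊓ H : Subgroup Ω) := by
  haveI hn : (A.subgroupOf S).Normal :=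
    (Subgroup.normal_subgroupOf_iff_le_normalizer h.le).mpr (le_normalizer h)
  have hd := Subgroup.relIndex_dvd_index_of_normal (A.subgroupOf S) (H.subgroupOf S)
  rw [Subgroup.relIndex_subgroupOf hH, h.index] at hd
  have he : A.relIndex H = p := ((Nat.dvd_prime hp.out).mp hd).resolve_left fun e =>
    hHA (Subgroup.relIndex_eq_one.mp e)
  rw [← Subgroup.card_mul_index (A.subgroupOf H), card_subgroupOf, ← Subgroup.relIndex, he, mul_comm]

theorem pow_mem_A {y : Ω} (hy : y ∈ S) : y ^ p ∈ A := by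
  haveI hn : (A.subgroupOf S).Normal :=
    (Subgroup.normal_subgroupOf_iff_le_normalizer h.le).mpr (le_normalizer h)
  have := Subgroup.pow_index_mem (A.subgroupOf S) (⟨y, hy⟩ : S)
  rw [h.index] at this
  exact this

theorem comm_mem_A {a x : Ω} (ha : a ∈ A) (hx : x ∈ S) : ⁅a, x⁆ ∈ A := by
  rw [commutatorElement_def, mul_assoc, mul_assoc, ← mul_assoc x]
  exact mul_mem ha (conj_mem_A h hx (inv_mem ha))

theorem comm_mul {a b x : Ω} (ha : a ∈ A) (hb : b ∈ A) (hx : x ∈ S) :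
    ⁅a * b, x⁆ = ⁅a, x⁆ * ⁅b, x⁆ := by
  have e : ⁅a * b, x⁆ = a * ⁅b, x⁆ * (x * a⁻¹ * x⁻¹) := by
    rw [commutatorElement_def, commutatorElement_def]; group
  have hm : x * a⁻¹ * x⁻¹ ∈ A := conj_mem_A h hx (inv_mem ha)
  rw [e, mul_assoc, h.comm _ (comm_mem_A h hb hx) _ hm, ← mul_assoc]
  congr 1
  rw [commutatorElement_def]; group

omit [Finite S] hp in
theorem comm_ctr {z x : Ω} (hz : z ∈ ctr S) (hx : x ∈ S) : ⁅z, x⁆ = 1 :=
  commutatorElement_eq_one_iff_mul_comm.mpr (ctr_comm hz hx).symm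

theorem comm_eq_one {a x : Ω} (ha : a ∈ A) (hx : x ∈ S) (hxA : x ∉ A) :
    ⁅a, x⁆ = 1 ↔ a ∈ ctr S :=
  ⟨fun e => mem_ctr_of_comm h hx hxA ha (commutatorElement_eq_one_iff_mul_comm.mp e),
    fun hz => comm_ctr h hz hx⟩

/-- The commutator map with `x`, on a subgroup of `A`. -/
def commHom {x : Ω} (hx : x ∈ S) {B : Subgroup Ω} (hB : B ≤ A) : B →* Ω where
  toFun a := ⁅(a : Ω), x⁆
  map_one' := by simp [commutatorElement_def]
  map_mul' a b := comm_mul h (hB a.2) (hB b.2) hx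

theorem img_eq_range {x : Ω} (hx : x ∈ S) {B : Subgroup Ω} (hB : B ≤ A) :
    img x B = (commHom h hx hB).range := by
  refine le_antisymm ((Subgroup.closure_le _).mpr ?_) ?_
  · rintro _ ⟨a, ha, rfl⟩
    exact ⟨⟨a, ha⟩, rfl⟩
  · rintro _ ⟨a, rfl⟩
    exact comm_mem_img a.2

theorem mem_img {x : Ω} (hx : x ∈ S) {B : Subgroup Ω} (hB : B ≤ A) {y : Ω} :
    y ∈ img x B ↔ ∃ a ∈ B, ⁅a, x⁆ = y := by
  rw [img_eq_range h hx hB]
  exact ⟨fun ⟨a, e⟩ => ⟨a, a.2, e⟩, fun ⟨a, ha, e⟩ => ⟨⟨a, ha⟩, e⟩⟩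

theorem img_le {x : Ω} (hx : x ∈ S) {B : Subgroup Ω} (hB : B ≤ A) : img x B ≤ A := by
  intro y hy
  obtain ⟨a, ha, rfl⟩ := (mem_img h hx hB).mp hy
  exact comm_mem_A h (hB ha) hx

theorem card_img {x : Ω} (hx : x ∈ S) (hxA : x ∉ A) {B : Subgroup Ω} (hB : B ≤ A) :
    Nat.card B = Nat.card (ctr S ⊓ B : Subgroup Ω) * Nat.card (img x B) := by
  have hk : (commHom h hx hB).ker = (ctr S).subgroupOf B := by
    ext a
    rw [MonoidHom.mem_ker, Subgroup.mem_subgroupOf]
    exact comm_eq_one h (hB a.2) hx hxA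
  rw [img_eq_range h hx hB, ← Subgroup.index_ker, hk, ← card_subgroupOf, Subgroup.card_mul_index]

theorem card_img_A {x : Ω} (hx : x ∈ S) (hxA : x ∉ A) :
    Nat.card A = Nat.card (ctr S) * Nat.card (img x A) := by
  rw [card_img h hx hxA le_rfl, inf_eq_left.mpr (ctr_le h)]

theorem exists_not_mem : ∃ x ∈ S, x ∉ A := SetLike.exists_of_lt (A_lt h)

/-- The derived subgroup is the image of `A` under the commutator map. -/
theorem derived_eq {x : Ω} (hx : x ∈ S) (hxA : x ∉ A) :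
    (commutator ↥S).map S.subtype = img x A := by
  rw [Subgroup.map_subtype_commutator]
  refine le_antisymm (Subgroup.commutator_le.mpr fun s hs t ht => ?_) ((Subgroup.closure_le _).mpr ?_)
  · have hpow : ∀ (n : ℕ) (a : Ω), a ∈ A → ⁅a, x ^ n⁆ ∈ img x A := by
      intro n
      induction n with
      | zero => intro a _; simp [commutatorElement_def, one_mem]
      | succ n ih =>
        intro a ha
        have e : ⁅a, x ^ (n + 1)⁆ = ⁅a, x⁆ * ⁅x * a * x⁻¹, x ^ n⁆ := by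
          rw [commutatorElement_def, commutatorElement_def, commutatorElement_def, pow_succ']
          group
        rw [e]
        exact mul_mem (comm_mem_img ha) (ih _ (conj_mem_A h hx ha))
    obtain ⟨a, ha, n, rfl⟩ := exists_eq h hx hxA hs
    obtain ⟨b, hb, m, rfl⟩ := exists_eq h hx hxA ht
    have e : ⁅a * x ^ n, b * x ^ m⁆ =
        a * ((x ^ n * b * (x ^ n)⁻¹) * (x ^ m * a⁻¹ * (x ^ m)⁻¹)) * b⁻¹ := by
      rw [commutatorElement_def]
      have : x ^ n * x ^ m = x ^ m * x ^ n := by rw [← pow_add, ← pow_add, add_comm]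
      calc a * x ^ n * (b * x ^ m) * (a * x ^ n)⁻¹ * (b * x ^ m)⁻¹
          = a * (x ^ n * b * (x ^ n)⁻¹) * (x ^ n * x ^ m * (x ^ n)⁻¹ * a⁻¹ * (x ^ m)⁻¹) * b⁻¹ := by group
        _ = _ := by rw [this]; group
    have h1 : x ^ m * a⁻¹ * (x ^ m)⁻¹ ∈ A := conj_mem_A h (pow_mem hx m) (inv_mem ha)
    have h2 : x ^ n * b * (x ^ n)⁻¹ ∈ A := conj_mem_A h (pow_mem hx n) hb
    rw [e, h.comm _ h2 _ h1, ← mul_assoc a, mul_assoc (a * _)]
    have e1 : a * (x ^ m * a⁻¹ * (x ^ m)⁻¹) = ⁅a, x ^ m⁆ := by rw [commutatorElement_def]; group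
    have e2 : x ^ n * b * (x ^ n)⁻¹ * b⁻¹ = ⁅b, x ^ n⁆⁻¹ := by rw [commutatorElement_def]; group
    rw [e1, e2]
    exact mul_mem (hpow m a ha) (inv_mem (hpow n b hb))
  · rintro _ ⟨a, ha, rfl⟩
    exact Subgroup.commutator_mem_commutator (h.le ha) hx

/-- The index of the centre in `A` is at least `p ^ 2`. -/
theorem sq_mul_card_ctr_le : p ^ 2 * Nat.card (ctr S) ≤ Nat.card A := by
  obtain ⟨x, hx, hxA⟩ := exists_not_mem h
  haveI := finite_A h
  obtain ⟨c, hc⟩ := Subgroup.card_dvd_of_le (ctr_le h)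
  have hne : Nat.card A ≠ p * Nat.card (ctr S) := by
    intro e
    set B := ctr S ⊔ Subgroup.zpowers x with hB
    have hBS : B ≤ S := sup_le inf_le_left (Subgroup.zpowers_le.mpr hx)
    have hxB : x ∈ B := Subgroup.mem_sup_right (Subgroup.mem_zpowers x)
    have hBc : ∀ a ∈ B, ∀ b ∈ B, a * b = b * a := by
      have hcl : B = Subgroup.closure ((ctr S : Set Ω) ∪ {x}) := by
        rw [hB, Subgroup.closure_union, Subgroup.closure_eq, Subgroup.zpowers_eq_closure]
      intro a ha b hb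
      rw [hcl] at ha hb
      refine comm_of_isMulCommutative (Subgroup.isMulCommutative_closure ?_) a ha b hb
      rintro u (hu | rfl) v (hv | rfl)
      · exact (ctr_comm hv hu.1)
      · exact (ctr_comm hu hx).symm
      · exact ctr_comm hv hx
      · rfl
    haveI := Fusion.finite_of_le hBS
    have hBA := card_eq_mul_inf h hBS fun hle => hxA (hle hxB)
    have hinf : Nat.card (A ⊓ B : Subgroup Ω) = Nat.card (ctr S) := by
      congr 1
      refine le_antisymm (fun a ha => mem_ctr_of_comm h hx hxA ha.1 (hBc a ha.2 x hxB))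
        (le_inf (ctr_le h) le_sup_left) |> fun e => by rw [e]
    refine hxA (h.uniq B hBS (isMulCommutative_of_comm hBc) ?_ ▸ hxB)
    have hcard := Subgroup.card_mul_index (B.subgroupOf S)
    rw [card_subgroupOf, inf_eq_left.mpr hBS, hBA, hinf, card_S h, e, mul_comm p (p * _)] at hcard
    exact Nat.eq_of_mul_eq_mul_left (Nat.mul_pos hp.out.pos Nat.card_pos) hcard
  obtain ⟨k, hk⟩ := IsPGroup.iff_card.mp (h.pS.to_le h.le)
  have hc' : c ∣ p ^ k := hk ▸ hc ▸ dvd_mul_left c _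
  obtain ⟨j, -, rfl⟩ := (Nat.dvd_prime_pow hp.out).mp hc'
  match j with
  | 0 =>
    exfalso
    have e := Subgroup.eq_of_le_of_card_ge (ctr_le h) (by rw [hc, pow_zero, mul_one])
    refine hxA (absurd (isMulCommutative_of_comm fun s hs t ht => ?_) h.nab)
    obtain ⟨a, ha, n, rfl⟩ := exists_eq h hx hxA hs
    obtain ⟨b, hb, m, rfl⟩ := exists_eq h hx hxA ht
    rw [← e] at ha hb
    have hh : ∀ (u : Ω), u ∈ ctr S → ∀ k : ℕ, x ^ k * u = u * x ^ k := fun u hu k =>
      ctr_comm hu (pow_mem hx k)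
    calc a * x ^ n * (b * x ^ m) = a * (x ^ n * b) * x ^ m := by group
      _ = (a * b) * (x ^ n * x ^ m) := by rw [hh b hb]; group
      _ = (b * a) * (x ^ m * x ^ n) := by
          rw [h.comm a (ctr_le h ha) b (ctr_le h hb), ← pow_add, ← pow_add, add_comm]
      _ = b * (a * x ^ m) * x ^ n := by group
      _ = b * x ^ m * (a * x ^ n) := by rw [← hh a ha]; group
  | 1 => exact absurd (by rw [hc, pow_one, mul_comm]) hne
  | j + 2 =>
    rw [hc, mul_comm]
    exact Nat.mul_le_mul_left _ (Nat.pow_le_pow_right hp.out.pos (by omega))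

theorem mem_ctr2_iff {x : Ω} (hx : x ∈ S) (hxA : x ∉ A) {a : Ω} (ha : a ∈ A) :
    a ∈ ctr2 S ↔ ⁅a, x⁆ ∈ ctr S := by
  refine ⟨fun h' => (mem_ctr2.mp h').2 x hx, fun hc => mem_ctr2.mpr ⟨h.le ha, fun t ht => ?_⟩⟩
  obtain ⟨b, hb, n, rfl⟩ := exists_eq h hx hxA ht
  have hpow : ∀ (n : ℕ) (a : Ω), a ∈ A → ⁅a, x⁆ ∈ ctr S → ⁅a, x ^ n⁆ ∈ ctr S := by
    intro n
    induction n with
    | zero => intro a _ _; rw [pow_zero, commutatorElement_one_right]; exact one_mem _
    | succ n ih =>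
      intro a ha hc
      have e : ⁅a, x ^ (n + 1)⁆ = ⁅a, x⁆ * ⁅x * a * x⁻¹, x ^ n⁆ := by
        rw [commutatorElement_def, commutatorElement_def, commutatorElement_def, pow_succ']
        group
      have e' : ⁅x * a * x⁻¹, x⁆ = x * ⁅a, x⁆ * x⁻¹ := by
        rw [commutatorElement_def, commutatorElement_def]; group
      rw [e]
      refine mul_mem hc (ih _ (conj_mem_A h hx ha) ?_)
      rwa [e', ctr_conj hc hx]
  have e : ⁅a, b * x ^ n⁆ = ⁅a, b⁆ * (b * ⁅a, x ^ n⁆ * b⁻¹) := by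
    rw [commutatorElement_def, commutatorElement_def, commutatorElement_def]; group
  rw [e, commutatorElement_eq_one_iff_mul_comm.mpr (h.comm a ha b hb), one_mul,
    ctr_conj (hpow n a ha hc) (h.le hb)]
  exact hpow n a ha hc

theorem img_ctr2 {x : Ω} (hx : x ∈ S) (hxA : x ∉ A) :
    img x (ctr2 S ⊓ A) = ctr S ⊓ img x A := by
  refine le_antisymm (le_inf (fun y hy => ?_) (img_mono inf_le_right)) fun y hy => ?_
  · obtain ⟨a, ha, rfl⟩ := (mem_img h hx inf_le_right).mp hy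
    exact (mem_ctr2_iff h hx hxA ha.2).mp ha.1
  · obtain ⟨a, ha, rfl⟩ := (mem_img h hx le_rfl).mp hy.2
    exact comm_mem_img ⟨(mem_ctr2_iff h hx hxA ha).mpr hy.1, ha⟩

theorem card_ctr2_inf {x : Ω} (hx : x ∈ S) (hxA : x ∉ A) :
    Nat.card (ctr2 S ⊓ A : Subgroup Ω) =
      Nat.card (ctr S) * Nat.card (ctr S ⊓ img x A : Subgroup Ω) := by
  rw [card_img h hx hxA inf_le_right, img_ctr2 h hx hxA,
    inf_eq_left.mpr (le_inf (ctr_le_ctr2 S) (ctr_le h))]

/-- If `Z₂(S) ∩ A` is just one step above the centre then `Z₂(S) ≤ A`. -/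
theorem ctr2_le (hcrit : Nat.card (ctr2 S ⊓ A : Subgroup Ω) = p * Nat.card (ctr S)) :
    ctr2 S ≤ A := by
  intro g hg
  by_contra hgA
  have hgS := (mem_ctr2.mp hg).1
  have hA2 : A ≤ ctr2 S := fun a ha => (mem_ctr2_iff h hgS hgA ha).mpr <| by
    have := inv_mem ((mem_ctr2.mp hg).2 a (h.le ha))
    rwa [commutatorElement_inv] at this
  rw [inf_eq_right.mpr hA2] at hcrit
  have h1 := sq_mul_card_ctr_le h
  rw [hcrit] at h1
  have hlt := (hp.out).one_lt
  have := Nat.le_of_mul_le_mul_right h1 Nat.card_pos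
  nlinarith

theorem card_ctr_inf_img (hcrit : Nat.card (ctr2 S ⊓ A : Subgroup Ω) = p * Nat.card (ctr S))
    {x : Ω} (hx : x ∈ S) (hxA : x ∉ A) : Nat.card (ctr S ⊓ img x A : Subgroup Ω) = p := by
  have := card_ctr2_inf h hx hxA
  rw [hcrit, mul_comm p] at this
  exact (Nat.eq_of_mul_eq_mul_left Nat.card_pos this).symm

end Cfsg.Agent.AbelianIndexP
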