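import Cfsg.Agent.AbelianIndexP.Series

/-!
# The centre when the abelian subgroup of index p is not essential
-/

set_option autoImplicit false
set_option linter.unusedSectionVars false
set_option linter.style.haveILetI false

namespace Cfsg.Agent.AbelianIndexP

open Cfsg
open Cfsg.Agent.Fusion
open Cfsg.FusionSystem (normalizerIn centralizerIn)
open scoped commutatorElement

theorem exists_pow_eq_of_prime {M : Type*} [Group M] {p : ℕ} [hp : Fact p.Prime] {c d e : M}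
    (hc : orderOf c = p) (hd : d ∈ Subgroup.zpowers c) (he : e ∈ Subgroup.zpowers c) (hd1 : d ≠ 1) :
    ∃ j : ℕ, d ^ j = e := by
  have hcard : Nat.card (Subgroup.zpowers c) = p := by rw [Nat.card_zpowers, hc]
  haveI : Finite (Subgroup.zpowers c) := Nat.finite_of_card_ne_zero (hcard ▸ hp.out.ne_zero)
  obtain ⟨j, hj⟩ := mem_powers_of_prime_card hcard (g := ⟨d, hd⟩) (g' := ⟨e, he⟩)
    (fun e' => hd1 (congrArg Subtype.val e'))
  exact ⟨j, congrArg Subtype.val hj⟩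

/-- Two conjugate automorphisms with commutators in a subgroup of order `p` generate an inverting one. -/
theorem exists_inverting_aut {M : Type*} [CommGroup M] {p : ℕ} [hp : Fact p.Prime] (t γ : MulAut M)
    (Z : Subgroup M) (c : M) (hc : orderOf c = p) (hfix : ∀ u, t u = u ↔ u ∈ Z)
    (hδ : ∀ u, u⁻¹ * t u ∈ Subgroup.zpowers c) (hcZ : c ∈ Z) (h1 : γ⁻¹ c ∉ Z) (h2 : γ c ∉ Z) :
    ∃ h ∈ Subgroup.closure ({t, γ * t * γ⁻¹} : Set (MulAut M)),
      (∀ z ∈ Z, γ⁻¹ z ∈ Z → h z = z) ∧ h c = c⁻¹ ∧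
        ∀ z : M, ∃ l : ℕ, γ⁻¹ (z * (c ^ l)⁻¹) ∈ Z := by
  have hfixd : ∀ u, t (u⁻¹ * t u) = u⁻¹ * t u := fun u => (hfix _).mpr <| by
    exact (Subgroup.zpowers_le.mpr hcZ) (hδ u)
  have hpow : ∀ (j : ℕ) (u : M), (t ^ j) u = u * (u⁻¹ * t u) ^ j := by
    intro j
    induction j with
    | zero => intro u; simp
    | succ j ih =>
      intro u
      rw [pow_succ', MulAut.mul_apply, ih, map_mul, map_pow, hfixd, pow_succ', ← mul_assoc,
        mul_inv_cancel_left]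
  have hne : ∀ u, u ∉ Z → u⁻¹ * t u ≠ 1 := fun u hu e => hu ((hfix u).mp (inv_mul_eq_one.mp e).symm)
  obtain ⟨j, hj⟩ := exists_pow_eq_of_prime hc (hδ (γ c)) (Subgroup.mem_zpowers c) (hne _ h2)
  obtain ⟨l, hl⟩ := exists_pow_eq_of_prime hc (hδ (γ⁻¹ c))
    (inv_mem (Subgroup.mem_zpowers c)) (hne _ h1)
  set u := t ^ j with hu
  set v := γ * t ^ l * γ⁻¹ with hv
  have hu1 : u (γ c) = γ c * c := by rw [hu, hpow, hj]
  have hu0 : ∀ z ∈ Z, u z = z := fun z hz => by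
    rw [hu, hpow, (hfix z).mpr hz, inv_mul_cancel, one_pow, mul_one]
  have hv0 : ∀ z, γ⁻¹ z ∈ Z → v z = z := fun z hz => by
    rw [hv, MulAut.mul_apply, MulAut.mul_apply, hpow, (hfix _).mpr hz, inv_mul_cancel, one_pow,
      mul_one]
    exact γ.apply_symm_apply z
  have hv1 : v c = c * (γ c)⁻¹ := by
    rw [hv, MulAut.mul_apply, MulAut.mul_apply, hpow, hl, map_mul, map_inv]
    congr 1
    exact γ.apply_symm_apply c
  have hvc : v (γ c) = γ c := hv0 _ <| by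
    rw [show γ⁻¹ (γ c) = c from γ.symm_apply_apply c]
    exact hcZ
  set w := u * v * u with hw
  have hwc : w c = (γ c)⁻¹ := by
    rw [hw, MulAut.mul_apply, MulAut.mul_apply, hu0 c hcZ, hv1, map_mul, map_inv, hu0 c hcZ, hu1,
      mul_inv_rev, mul_inv_cancel_left]
  have hwg : w (γ c) = c := by
    rw [hw, MulAut.mul_apply, MulAut.mul_apply, hu1, map_mul, hvc, hv1, mul_left_comm,
      mul_inv_cancel, mul_one, hu0 c hcZ]
  refine ⟨w * w, ?_, fun z hz hz' => ?_, ?_, fun z => ?_⟩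
  · set K := Subgroup.closure ({t, γ * t * γ⁻¹} : Set (MulAut M)) with hK
    have htm : u ∈ K := by
      rw [hu]
      exact K.pow_mem (Subgroup.subset_closure (Set.mem_insert t _)) j
    have hvm : v ∈ K := by
      rw [hv, ← conj_pow]
      exact K.pow_mem (Subgroup.subset_closure (Set.mem_insert_of_mem t (Set.mem_singleton _))) l
    have hwm : w ∈ K := by
      rw [hw]
      exact K.mul_mem (K.mul_mem htm hvm) htm
    exact K.mul_mem hwm hwm
  · have : w z = z := by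
      rw [hw, MulAut.mul_apply, MulAut.mul_apply, hu0 z hz, hv0 z hz', hu0 z hz]
    rw [MulAut.mul_apply, this, this]
  · rw [MulAut.mul_apply, hwc, map_inv, hwg]
  · obtain ⟨m, hm⟩ := exists_pow_eq_of_prime hc (hδ (γ⁻¹ c)) (hδ (γ⁻¹ z)) (hne _ h1)
    refine ⟨m, (hfix _).mp ?_⟩
    rw [map_mul, map_inv, map_pow, map_mul, map_inv, map_pow]
    rw [mul_pow, inv_pow] at hm
    calc t (γ⁻¹ z) * (t (γ⁻¹ c) ^ m)⁻¹
        = γ⁻¹ z * ((γ⁻¹ z)⁻¹ * t (γ⁻¹ z)) * (t (γ⁻¹ c) ^ m)⁻¹ := by rw [mul_inv_cancel_left]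
      _ = γ⁻¹ z * ((γ⁻¹ c ^ m)⁻¹ * t (γ⁻¹ c) ^ m) * (t (γ⁻¹ c) ^ m)⁻¹ := by rw [hm]
      _ = γ⁻¹ z * (γ⁻¹ c ^ m)⁻¹ := by group

variable {Ω : Type*} [Group Ω] {p : ℕ} [hp : Fact p.Prime] {S A : Subgroup Ω} [Finite S]
  {F : FusionSystem S}

/-- `Z(S) ∩ [S, S]`. -/
abbrev ctr0 (S : Subgroup Ω) : Subgroup Ω := ctr S ⊓ (commutator ↥S).map S.subtype

/-- An automorphism of `Z(S)` inverting `Z(S) ∩ [S,S]` and trivial modulo it. -/
def Inverts (F : FusionSystem S) (e : Ω → Ω) : Prop :=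
  IsIso F (ctr S) (ctr S) e ∧ (∀ z ∈ ctr0 S, e z = z⁻¹) ∧ ∀ z ∈ ctr S, z⁻¹ * e z ∈ ctr0 S

/-- The fixed points in `Z(S)` of an automorphism. -/
def fixed {e : Ω → Ω} (he : IsMap F (ctr S) e) : Subgroup Ω where
  carrier := {z | z ∈ ctr S ∧ e z = z}
  one_mem' := ⟨one_mem _, he.map_one⟩
  mul_mem' {a b} ha hb := ⟨mul_mem ha.1 hb.1, by rw [he.map_mul ha.1 hb.1, ha.2, hb.2]⟩
  inv_mem' {a} ha := ⟨inv_mem ha.1, by rw [he.map_inv ha.1, ha.2]⟩

variable (h : Setup p S A) (hcrit : Nat.card (ctr2 S ⊓ A : Subgroup Ω) = p * Nat.card (ctr S))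

include h hcrit

theorem card_ctr0 : Nat.card (ctr0 S) = p := by
  obtain ⟨x, hx, hxA⟩ := exists_not_mem h
  rw [ctr0, derived_eq h hx hxA]
  exact card_ctr_inf_img h hcrit hx hxA

theorem orderOf_ctr0 {z : Ω} (hz : z ∈ ctr0 S) (h1 : z ≠ 1) : orderOf z = p := by
  have hd : orderOf z ∣ p := card_ctr0 h hcrit ▸ Subgroup.orderOf_dvd_natCard _ hz
  exact ((Nat.dvd_prime hp.out).mp hd).resolve_left fun e => h1 (orderOf_eq_one_iff.mp e)

variable (hF : F.IsSaturated p)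

include hF

theorem fixed_of_unipotent {e : Ω → Ω} (he : IsIso F (ctr S) (ctr S) e)
    (h0 : ∀ z ∈ ctr0 S, e z = z) (h1 : ∀ z ∈ ctr S, z⁻¹ * e z ∈ ctr0 S) :
    Set.EqOn e id (ctr S : Set Ω) := by
  haveI := finite_mulAut (ctr S : Subgroup Ω)
  obtain ⟨α, hα, hαe⟩ := he.exists_aut
  have hval : ∀ z : ctr S, (α z : Ω) = e z := fun z => (autFun_coe α z).symm.trans (hαe z.2)
  have hiter : ∀ (j : ℕ) (z : ctr S), ((α ^ j) z : Ω) = z * ((z : Ω)⁻¹ * e z) ^ j := by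
    intro j
    induction j with
    | zero => intro z; simp
    | succ j ih =>
      intro z
      have hw := h1 z z.2
      rw [pow_succ', MulAut.mul_apply, hval, ih, he.1.map_mul z.2 (pow_mem hw.1 j),
        he.1.map_pow hw.1, h0 _ hw, pow_succ', ← mul_assoc (z : Ω) ((z : Ω)⁻¹ * e z),
        mul_inv_cancel_left]
  have hpow : α ^ p = 1 := MulEquiv.ext fun z => Subtype.ext (by
    rw [hiter, MulAut.one_apply]
    have := pow_card_eq_one' (G := ctr0 S) (x := ⟨_, h1 z z.2⟩)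
    rw [card_ctr0 h hcrit] at this
    rw [show ((z : Ω)⁻¹ * e z) ^ p = 1 by simpa using congrArg Subtype.val this, mul_one])
  have hfn : F.IsFullyNormalized (ctr S) := ⟨inf_le_left, fun Q _ => by
    rw [show normalizerIn S (ctr S) = S from inf_eq_left.mpr fun s hs =>
      Subgroup.mem_normalizer_iff.mpr fun z => ⟨fun hz => by rw [ctr_conj hz hs]; exact hz,
        fun hz => by
          have := ctr_conj hz (inv_mem hs)
          rw [show s⁻¹ * (s * z * s⁻¹) * s⁻¹⁻¹ = z by group] at this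
          rwa [← this] at hz⟩]
    exact Subgroup.card_le_of_le inf_le_left⟩
  obtain ⟨-, R, hR⟩ := fullyAutomized_of_fullyNormalized h.pS hF hfn
  have hbot : (R : Subgroup (F.autGroup (ctr S))) = ⊥ := by
    rw [hR, eq_bot_iff]
    intro β hβ
    rw [Subgroup.mem_subgroupOf, mem_autInducedBy] at hβ
    obtain ⟨s, hs, hsβ⟩ := hβ
    refine Subgroup.mem_bot.mpr (Subtype.ext (MulEquiv.ext fun z => Subtype.ext ?_))
    rw [hsβ, ctr_conj z.2 hs]
    rfl
  have hnd := R.not_dvd_index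
  rw [hbot, Subgroup.index_bot] at hnd
  have hα1 : α = 1 := by
    by_contra hne
    refine hnd ?_
    rw [← orderOf_eq_prime hpow hne, ← Subgroup.orderOf_mk α hα]
    exact orderOf_dvd_natCard _
  intro z hz
  rw [← hαe hz, hα1]
  exact autFun_one hz

theorem Inverts.unique {e f : Ω → Ω} (he : Inverts F e) (hf : Inverts F f) :
    Set.EqOn e f (ctr S : Set Ω) := by
  have key : ∀ {a b : Ω → Ω}, Inverts F a → Inverts F b → ∀ z ∈ ctr S, b (a z) = z := by
    intro a b ha hb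
    refine fixed_of_unipotent h hcrit hF (e := b ∘ a) (ha.1.comp hb.1) (fun z hz => ?_) fun z hz => ?_
    · show b (a z) = z
      rw [ha.2.1 z hz, hb.1.1.map_inv hz.1, hb.2.1 z hz, inv_inv]
    · show z⁻¹ * b (a z) ∈ ctr0 S
      have hw := ha.2.2 z hz
      have e1 : b (a z) = b z * b (z⁻¹ * a z) := by
        rw [← hb.1.1.map_mul hz hw.1, mul_inv_cancel_left]
      rw [e1, hb.2.1 _ hw, ← mul_assoc]
      exact mul_mem (hb.2.2 z hz) (inv_mem hw)
  intro z hz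
  have := key he hf (e z) (he.1.mem hz)
  rw [key he he z hz] at this
  exact this.symm

omit hF in
/-- Conjugations of the abelian essential subgroup `Z⟨x⟩` move it inside `Z ∩ [S,S]`. -/
theorem aut_move {P : Subgroup Ω} (hP : F.IsEssential p P) (hab : IsMulCommutative ↥P) (hPA : P ≠ A)
    {β : MulAut P} (hβ : β ∈ autInducedBy S P) :
    (∀ u : P, ((u⁻¹ * β u : P) : Ω) ∈ ctr0 S) ∧ (∀ u : P, (u : Ω) ∈ ctr S → β u = u) ∧
      (β ≠ 1 → ∀ u : P, β u = u → (u : Ω) ∈ ctr S) := by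
  obtain ⟨s, hs, hsβ⟩ := mem_autInducedBy.mp hβ
  obtain ⟨x, hx, hxA⟩ := SetLike.not_le_iff_exists.mp (not_le_A h hP.1 hPA)
  have hPAe := inf_eq_ctr h hP hab hx hxA
  have hzero : ∀ u : P, ((u⁻¹ * β u : P) : Ω) ∈ ctr0 S := by
    intro u
    have hd : ((u⁻¹ * β u : P) : Ω) ∈ (commutator ↥S).map S.subtype := by
      rw [Subgroup.map_subtype_commutator, Subgroup.coe_mul, Subgroup.coe_inv, hsβ]
      have := Subgroup.commutator_mem_commutator (inv_mem (hP.1.1 u.2)) hs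
      rw [commutatorElement_def, inv_inv] at this
      simpa [mul_assoc] using this
    refine ⟨hPAe ▸ ⟨Subtype.mem _, ?_⟩, hd⟩
    rw [derived_eq h (hP.1.1 hx) hxA] at hd
    exact img_le h (hP.1.1 hx) le_rfl hd
  have hfixZ : ∀ u : P, (u : Ω) ∈ ctr S → β u = u := fun u hu =>
    Subtype.ext (by rw [hsβ, ctr_conj hu hs])
  refine ⟨hzero, hfixZ, fun hne u hu => ?_⟩
  by_contra huZ
  have huA : (u : Ω) ∉ A := fun hA => huZ (hPAe ▸ ⟨u.2, hA⟩)
  refine hne (MulEquiv.ext fun v => ?_)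
  obtain ⟨b, hb, n, hbn⟩ := exists_eq h (hP.1.1 u.2) huA (hP.1.1 v.2)
  have hbP : b ∈ P := by
    have := mul_mem v.2 (inv_mem (pow_mem u.2 n))
    rwa [hbn, mul_inv_cancel_right] at this
  rw [show v = ⟨b, hbP⟩ * u ^ n from Subtype.ext (by simpa using hbn), map_mul, map_pow, hu,
    hfixZ ⟨b, hbP⟩ (hPAe ▸ ⟨hbP, hb⟩), MulAut.one_apply]

theorem exists_inverts {P : Subgroup Ω} (hP : F.IsEssential p P) (hab : IsMulCommutative ↥P)
    (hPA : P ≠ A) (hp2 : p ≠ 2) {γ : MulAut P} (hγ : γ ∈ F.autGroup P)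
    (hmove : mapAut γ (ctr S) ≠ ctr S) :
    ∃ e, Inverts F e ∧ (∀ z ∈ ctr S, e z = z ↔ z ∈ mapAut γ (ctr S)) ∧
      (ctr S ⊓ mapAut γ (ctr S) = ⊥ → ctr S ≤ ctr0 S) := by
  have hPS := hP.1.1
  have hZP := ctr_le_centric h hP.1
  obtain ⟨x, hx, hxA⟩ := SetLike.not_le_iff_exists.mp (not_le_A h hP.1 hPA)
  obtain ⟨a, ha, haP, hax⟩ := exists_normalizing h hF hP hPA hx hxA
  set Z := (ctr S).subgroupOf P with hZdef
  have hmemZ : ∀ u : P, (u : Ω) ∈ mapAut γ (ctr S) ↔ γ⁻¹ u ∈ Z := by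
    intro u
    constructor
    · intro hu
      obtain ⟨q, hq, hqP, hqe⟩ := mem_mapAut.mp hu
      rw [autFun_of_mem γ hqP] at hqe
      rw [← show γ ⟨q, hqP⟩ = u from Subtype.ext hqe]
      show (γ.symm (γ ⟨q, hqP⟩) : Ω) ∈ ctr S
      rw [MulEquiv.symm_apply_apply]
      exact hq
    · intro hu
      refine mem_mapAut.mpr ⟨_, hu, Subtype.mem _, ?_⟩
      show autFun γ ((γ⁻¹ u : P) : Ω) = u
      rw [autFun_coe]
      exact congrArg Subtype.val (γ.apply_symm_apply u)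
  have hoff : ∀ β : MulAut P, β ∈ autInducedBy S P → γ * β * γ⁻¹ ∈ autInducedBy S P → β = 1 := by
    intro β hβ hγβ
    by_contra hne
    obtain ⟨-, hb2, hb3⟩ := aut_move h hcrit hP hab hPA hβ
    obtain ⟨-, hc2, hc3⟩ := aut_move h hcrit hP hab hPA hγβ
    refine hmove (Subgroup.eq_of_le_of_card_ge (fun y hy => ?_) ?_)
    · obtain ⟨q, hq, hqP, rfl⟩ := mem_mapAut.mp hy
      rw [autFun_of_mem γ hqP]
      refine hc3 (fun e => hne ?_) _ ?_
      · have := congrArg (fun g => γ⁻¹ * g * γ) e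
        simpa [mul_assoc] using this
      · rw [MulAut.mul_apply, MulAut.mul_apply,
          show γ⁻¹ (γ ⟨q, hqP⟩) = ⟨q, hqP⟩ from γ.symm_apply_apply _, hb2 _ hq]
    · exact (card_mapAut γ hZP).ge
  have haN : a ∈ normalizerIn S P := by
    refine ⟨h.le ha, mem_normalizer_of_comm_mem h hPS fun y hy =>
      (comm_mem_of_comm_mem h hPS hx hxA (Q := P ⊓ A) (fun q hq =>
        ⟨P.mul_mem (P.mul_mem hx hq.1) (P.inv_mem hx), conj_mem_A h (hPS hx) hq.2⟩) ha hax y hy).1⟩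
  set t := conjAutHom S P ⟨a, haN⟩ with ht
  have htS : t ∈ autInducedBy S P := by rw [← range_conjAutHom]; exact ⟨_, rfl⟩
  have htG : t ∈ F.autGroup P := autInducedBy_le_autGroup hPS htS
  obtain ⟨ht1, ht2, ht3⟩ := aut_move h hcrit hP hab hPA htS
  have htne : t ≠ 1 := fun e => haP (hZP (mem_ctr_of_comm h (hPS hx) hxA ha (by
    have := congrArg (fun g : MulAut P => (g ⟨x, hx⟩ : Ω)) e
    simp only [ht, conjAutHom_apply, MulAut.one_apply] at this
    exact mul_inv_eq_iff_eq_mul.mp this)))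
  obtain ⟨c, hc, hc1⟩ : ∃ c ∈ ctr0 S, c ≠ 1 := by
    have : ctr0 S ≠ ⊥ := fun e => hp.out.ne_one (by rw [← card_ctr0 h hcrit, e, Subgroup.card_bot])
    obtain ⟨c, hc, hc1⟩ := (Subgroup.bot_or_exists_ne_one _).resolve_left this
    exact ⟨c, hc, hc1⟩
  set c' : P := ⟨c, hZP hc.1⟩ with hc'
  have hord : orderOf c' = p := by rw [← Subgroup.orderOf_coe]; exact orderOf_ctr0 h hcrit hc hc1
  have hzp : Subgroup.zpowers c = ctr0 S := by
    haveI : Finite (ctr0 S) := finite_of_le (inf_le_left.trans inf_le_left)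
    exact Subgroup.eq_of_le_of_card_ge (Subgroup.zpowers_le.mpr hc)
      (by rw [Nat.card_zpowers, orderOf_ctr0 h hcrit hc hc1, card_ctr0 h hcrit])
  have hδ : ∀ u : P, u⁻¹ * t u ∈ Subgroup.zpowers c' := by
    intro u
    have := ht1 u
    rw [← hzp] at this
    obtain ⟨k, hk⟩ := this
    exact ⟨k, Subtype.ext (by simpa [hc'] using hk)⟩
  have hfixt : ∀ u : P, t u = u ↔ u ∈ Z := fun u => ⟨ht3 htne u, ht2 u⟩
  have hz0 : ∀ z : P, z ∈ Subgroup.zpowers c' → (z : Ω) ∈ ctr0 S := by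
    rintro z ⟨k, rfl⟩
    rw [← hzp]
    exact ⟨k, by simp [hc']⟩
  set γ' : F.autGroup P := ⟨γ, hγ⟩ with hγ'
  set W := ctr S ⊓ mapAut γ (ctr S) with hW
  have h1 : γ⁻¹ c' ∉ Z := by
    intro hcZ
    refine htne (congrArg Subtype.val (stab_inter_eq_one h hF hP hγ hoff
      (g := ⟨t, htG⟩) ⟨fun w hw => ht2 w hw.1, fun y => ?_⟩))
    have hW0 : ctr0 S ≤ W := by
      rw [← hzp, Subgroup.zpowers_le]
      exact ⟨hc.1, (hmemZ c').mpr hcZ⟩
    exact hW0 (ht1 y)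
  have h2 : γ c' ∉ Z := by
    intro hcZ
    have hW0 : ∀ z : P, z ∈ Subgroup.zpowers c' → ((γ z : P) : Ω) ∈ W := by
      rintro z ⟨k, rfl⟩
      rw [map_zpow, Subgroup.coe_zpow]
      refine zpow_mem ?_ k
      exact ⟨hcZ, (hmemZ _).mpr (by
        rw [show γ⁻¹ (γ c') = c' from γ.symm_apply_apply c']; exact hc.1)⟩
    have ht' := stab_inter_eq_one h hF hP hγ hoff (g := γ' * ⟨t, htG⟩ * γ'⁻¹)
      ⟨fun w hw => ?_, fun y => ?_⟩
    · apply htne
      have := congrArg (fun g => γ'⁻¹ * g * γ') ht'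
      simp only [mul_assoc, inv_mul_cancel_left, inv_mul_cancel, mul_one] at this
      exact congrArg Subtype.val this
    · show γ (t (γ⁻¹ w)) = w
      rw [ht2 _ ((hmemZ w).mp hw.2)]
      exact γ.apply_symm_apply w
    · show ((y⁻¹ * γ (t (γ⁻¹ y)) : P) : Ω) ∈ W
      have e : y⁻¹ * γ (t (γ⁻¹ y)) = γ ((γ⁻¹ y)⁻¹ * t (γ⁻¹ y)) := by
        rw [map_mul, map_inv]
        congr 2
        exact (γ.apply_symm_apply y).symm
      rw [e]
      exact hW0 _ (hδ _)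
  letI : CommGroup P := { (inferInstance : Group P) with
    mul_comm := fun u v => Subtype.ext (comm_of_isMulCommutative hab u u.2 v v.2) }
  obtain ⟨η, hη, hηW, hηc, hdec⟩ := exists_inverting_aut (M := P) t γ Z c' hord hfixt hδ hc.1 h1 h2
  have hηG : η ∈ F.autGroup P := by
    refine (Subgroup.closure_le (F.autGroup P)).mpr ?_ hη
    rintro g (rfl | rfl)
    · exact htG
    · exact mul_mem (mul_mem hγ htG) (inv_mem hγ)
  have hsplit : ∀ z : P, (z : Ω) ∈ ctr S → ∃ w : P, ∃ l : ℕ,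
      ((w : Ω) ∈ ctr S ∧ γ⁻¹ w ∈ Z) ∧ z = w * c' ^ l ∧ η z = w * (c' ^ l)⁻¹ := by
    intro z hz
    obtain ⟨l, hl⟩ := hdec z
    have hwZ : ((z * (c' ^ l)⁻¹ : P) : Ω) ∈ ctr S := by
      rw [Subgroup.coe_mul, Subgroup.coe_inv, Subgroup.coe_pow]
      exact mul_mem hz (inv_mem (pow_mem hc.1 l))
    refine ⟨z * (c' ^ l)⁻¹, l, ⟨hwZ, hl⟩, by group, ?_⟩
    conv_lhs => rw [show z = z * (c' ^ l)⁻¹ * c' ^ l by group]
    rw [map_mul, map_pow, hηc, hηW _ hwZ hl, inv_pow]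
  have hcl : ∀ l : ℕ, ((c' ^ l : P) : Ω) ∈ ctr0 S := fun l => hz0 _ (pow_mem (Subgroup.mem_zpowers c') l)
  haveI : Finite (ctr S : Subgroup Ω) := finite_of_le inf_le_left
  have hmaps : ∀ z ∈ ctr S, autFun η z ∈ ctr S := by
    intro z hz
    obtain ⟨w, l, hw, -, hη'⟩ := hsplit ⟨z, hZP hz⟩ hz
    rw [autFun_of_mem η (hZP hz), hη', Subgroup.coe_mul, Subgroup.coe_inv]
    exact mul_mem hw.1 (inv_mem (hcl l).1)
  refine ⟨autFun η, ⟨⟨((mem_autGroup hPS).mp hηG).1.mono hZP, autFun_image_eq η hZP hmaps⟩,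
    fun z hz => ?_, fun z hz => ?_⟩, fun z hz => ?_, fun hbot z hz => ?_⟩
  · rw [autFun_of_mem η (hZP hz.1)]
    obtain ⟨k, rfl⟩ : z ∈ Subgroup.zpowers c := hzp.symm ▸ hz
    have e : (⟨c ^ k, hZP hz.1⟩ : P) = c' ^ k := Subtype.ext (by simp [hc'])
    simp only [e, map_zpow, hηc, inv_zpow, Subgroup.coe_inv, Subgroup.coe_zpow]
    simp [hc']
  · obtain ⟨w, l, -, hzw, hη'⟩ := hsplit ⟨z, hZP hz⟩ hz
    rw [autFun_of_mem η (hZP hz), hη',
      show z⁻¹ = ((⟨z, hZP hz⟩⁻¹ : P) : Ω) from rfl, ← Subgroup.coe_mul, hzw,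
      show (w * c' ^ l)⁻¹ * (w * (c' ^ l)⁻¹) = (c' ^ l)⁻¹ * (c' ^ l)⁻¹ by
        rw [mul_inv_rev, mul_assoc, inv_mul_cancel_left], Subgroup.coe_mul, Subgroup.coe_inv]
    exact mul_mem (inv_mem (hcl l)) (inv_mem (hcl l))
  · constructor
    · intro hfixz
      obtain ⟨w, l, hw, hzw, hη'⟩ := hsplit ⟨z, hZP hz⟩ hz
      have e1 : η ⟨z, hZP hz⟩ = ⟨z, hZP hz⟩ := Subtype.ext
        ((autFun_of_mem η (hZP hz)).symm.trans hfixz)
      rw [hη'] at e1
      have e2 : c' ^ (2 * l) = 1 := by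
        have h3 := mul_left_cancel (e1.trans hzw)
        rw [two_mul, pow_add]
        nth_rewrite 1 [← h3]
        rw [inv_mul_cancel]
      have e3 : p ∣ 2 * l := hord ▸ orderOf_dvd_of_pow_eq_one e2
      have e4 : c' ^ l = 1 := orderOf_dvd_iff_pow_eq_one.mp (hord.symm ▸
        ((hp.out.coprime_iff_not_dvd.mpr fun hd =>
          hp2 ((Nat.prime_dvd_prime_iff_eq hp.out Nat.prime_two).mp hd)).dvd_of_dvd_mul_left e3))
      rw [e4, mul_one] at hzw
      exact (hmemZ ⟨z, hZP hz⟩).mpr (hzw ▸ hw.2)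
    · intro hzg
      rw [autFun_of_mem η (hZP hz), hηW ⟨z, hZP hz⟩ hz ((hmemZ _).mp hzg)]
  · obtain ⟨w, l, hw, hzw, -⟩ := hsplit ⟨z, hZP hz⟩ hz
    have : (w : Ω) ∈ W := ⟨hw.1, (hmemZ w).mpr hw.2⟩
    rw [hbot, Subgroup.mem_bot] at this
    have hz' := congrArg Subtype.val hzw
    rw [Subgroup.coe_mul, this, one_mul] at hz'
    rw [show z = ((c' ^ l : P) : Ω) from hz']
    exact hcl l

omit hF in
theorem ctr0_invariant {E : Subgroup Ω} (hE : E ≤ S) (hEA : ¬ E ≤ A) (h2E : ctr2 S ⊓ A ≤ E)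
    {α : MulAut E} (hZ : ∀ z ∈ ctr S, autFun α z ∈ ctr S) {z : Ω} (hz : z ∈ ctr0 S) :
    autFun α z ∈ ctr0 S := by
  obtain ⟨x, hx, hxA⟩ := SetLike.not_le_iff_exists.mp hEA
  refine ⟨hZ z hz.1, ?_⟩
  obtain ⟨hz1, hz2⟩ := hz
  rw [derived_eq h (hE hx) hxA] at hz2
  have hz3 : z ∈ img x (ctr2 S ⊓ A) := by rw [img_ctr2 h (hE hx) hxA]; exact ⟨hz1, hz2⟩
  obtain ⟨a, ha, rfl⟩ := (mem_img h (hE hx) inf_le_right).mp hz3
  have e : (⁅a, x⁆ : Ω) = ((⁅(⟨a, h2E ha⟩ : E), ⟨x, hx⟩⁆ : E) : Ω) := rfl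
  rw [e, autFun_coe, map_commutatorElement, Subgroup.map_subtype_commutator]
  exact Subgroup.commutator_mem_commutator (hE (α _).2) (hE (α _).2)

omit hcrit hF in
theorem ctr_invariant_self {α : MulAut S} {z : Ω} (hz : z ∈ ctr S) : autFun α z ∈ ctr S := by
  rw [autFun_of_mem α hz.1, ← mem_center_subtype]
  have hc : (⟨z, hz.1⟩ : S) ∈ Subgroup.center ↥S := mem_center_subtype.mpr hz
  rw [Subgroup.mem_center_iff] at hc ⊢
  intro y
  obtain ⟨y, rfl⟩ := α.surjective y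
  rw [← map_mul, ← map_mul, hc]

omit hcrit hF in
theorem ctr_ne_bot : ctr S ≠ ⊥ := by
  haveI : Nontrivial S := by
    refine not_subsingleton_iff_nontrivial.mp fun hs => h.nab (isMulCommutative_of_comm ?_)
    intro a ha b hb
    exact congrArg Subtype.val
      (@Subsingleton.elim _ hs ((⟨a, ha⟩ : S) * ⟨b, hb⟩) (⟨b, hb⟩ * ⟨a, ha⟩))
  intro hbot
  obtain ⟨s, hs, hs1⟩ := (Subgroup.nontrivial_iff_exists_ne_one _).mp h.pS.center_nontrivial
  refine hs1 (Subtype.ext ?_)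
  have h' := mem_center_subtype.mp hs
  rw [hbot, Subgroup.mem_bot] at h'
  exact h'

omit hcrit in
/-- The structure theorem when `A` is not essential and `O_p(F) = 1`. -/
theorem exists_abelian_essential_and_le (hp2 : p ≠ 2) (hcore : F.core = ⊥)
    (hAe : ¬ F.IsEssential p A) :
    ∃ P, F.IsEssential p P ∧ P ≠ A ∧ IsMulCommutative ↥P ∧ ctr S ≤ ctr0 S := by
  have hnormal : ∀ Q : Subgroup Ω, F.IsNormal Q → Q = ⊥ := fun Q hQ =>
    eq_bot_iff.mpr (hcore ▸ le_sSup hQ)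
  have hessA : ∀ {E : Subgroup Ω}, F.IsEssential p E → E ≠ A := fun hE e => hAe (e ▸ hE)
  haveI : Finite (ctr S : Subgroup Ω) := finite_of_le inf_le_left
  by_cases hno : ∃ P, F.IsEssential p P ∧ IsMulCommutative ↥P
  swap
  · exfalso
    refine ctr_ne_bot h (hnormal _ (isNormal_of_invariant h.pS hF fun E hE => ?_))
    rcases hE with rfl | hE
    · exact ⟨inf_le_left, fun α _ => autFun_image_eq α inf_le_left fun z hz => ctr_invariant_self h hz⟩
    · exact ⟨ctr_le_centric h hE.1, fun α _ => autFun_image_eq α (ctr_le_centric h hE.1) fun z hz =>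
        ctr_invariant h hF hE (fun hab => hno ⟨E, hE, hab⟩) hz⟩
  obtain ⟨P, hP, hab⟩ := hno
  refine ⟨P, hP, hessA hP, hab, ?_⟩
  have hcrit := crit h hF hP (hessA hP)
  have exists_move : ∀ {E : Subgroup Ω}, F.IsEssential p E → IsMulCommutative ↥E →
      ∃ γ ∈ F.autGroup E, mapAut γ (ctr S) ≠ ctr S := by
    intro E hE habE
    obtain ⟨γ, hγ, q, hq, hqA⟩ := exists_moving h hF hE (hessA hE)
    obtain ⟨x, hx, hxA⟩ := SetLike.not_le_iff_exists.mp (not_le_A h hE.1 (hessA hE))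
    rw [inf_eq_ctr h hE habE hx hxA] at hq
    refine ⟨γ, hγ, fun e => hqA (ctr_le h ?_)⟩
    rw [← e]
    exact mem_mapAut.mpr ⟨q, hq, ctr_le_centric h hE.1 hq, rfl⟩
  obtain ⟨γ0, hγ0, hγ0m⟩ := exists_move hP hab
  obtain ⟨e0, he0, hfix0, hsmall⟩ := exists_inverts h hcrit hF hP hab (hessA hP) hp2 hγ0 hγ0m
  refine hsmall ?_
  set C := fixed he0.1.1 with hC
  suffices hCn : F.IsNormal C by
    rw [eq_bot_iff, ← hnormal C hCn]
    exact fun z hz => ⟨hz.1, (hfix0 z hz.1).mpr hz.2⟩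
  haveI : Finite C := finite_of_le (fun z (hz : z ∈ C) => hz.1.1)
  have hkey : ∀ {E : Subgroup Ω} {α : MulAut E}, E ≤ S → ¬ E ≤ A → ctr2 S ⊓ A ≤ E → ctr S ≤ E →
      α ∈ F.autGroup E → (∀ β : MulAut E, ∀ z ∈ ctr S, autFun β z ∈ ctr S) →
      ∀ z ∈ C, autFun α z ∈ C := by
    intro E α hES hEA h2E hZE hα hZinv z hz
    refine ⟨hZinv α z hz.1, ?_⟩
    set f := autFun α with hf
    set g := autFun α⁻¹ with hg
    have hfg : ∀ w ∈ ctr S, f (g w) = w := fun w hw => by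
      rw [hf, hg, autFun_of_mem α⁻¹ (hZE hw), autFun_coe]
      exact congrArg Subtype.val (α.apply_symm_apply _)
    have hgf : ∀ w ∈ ctr S, g (f w) = w := fun w hw => by
      rw [hf, hg, autFun_of_mem α (hZE hw), autFun_coe]
      exact congrArg Subtype.val (α.symm_apply_apply _)
    have hfi : IsIso F (ctr S) (ctr S) f :=
      ⟨((mem_autGroup hES).mp hα).1.mono hZE, autFun_image_eq α hZE (hZinv α)⟩
    have hgi : IsIso F (ctr S) (ctr S) g :=
      ⟨((mem_autGroup hES).mp (inv_mem hα)).1.mono hZE, autFun_image_eq α⁻¹ hZE (hZinv α⁻¹)⟩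
    have hconj : Inverts F (f ∘ e0 ∘ g) := by
      refine ⟨(hgi.comp he0.1).comp hfi, fun w hw => ?_, fun w hw => ?_⟩
      · show f (e0 (g w)) = w⁻¹
        have hgw : g w ∈ ctr0 S := ctr0_invariant h hcrit hES hEA h2E (hZinv α⁻¹) hw
        rw [he0.2.1 _ hgw, hfi.1.map_inv hgw.1, hfg w hw.1]
      · show w⁻¹ * f (e0 (g w)) ∈ ctr0 S
        have h0 := he0.2.2 _ (hgi.mem hw)
        have := ctr0_invariant h hcrit hES hEA h2E (hZinv α) h0
        rw [← hf, hfi.1.map_mul (inv_mem (hgi.mem hw)) (he0.1.mem (hgi.mem hw)),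
          hfi.1.map_inv (hgi.mem hw), hfg w hw] at this
        exact this
    have := Inverts.unique h hcrit hF hconj he0 (hfi.mem hz.1)
    simp only [Function.comp_apply] at this
    rw [hgf z hz.1, hz.2] at this
    exact this.symm
  refine isNormal_of_invariant h.pS hF fun E hE => ?_
  rcases hE with rfl | hE
  · refine ⟨fun z hz => hz.1.1, fun α hα => autFun_image_eq α (fun z hz => hz.1.1) ?_⟩
    exact hkey le_rfl (fun hle => (A_lt h).not_ge hle) (inf_le_right.trans h.le) inf_le_left hα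
      fun β z hz => ctr_invariant_self h hz
  · have hCE : C ≤ E := fun z hz => ctr_le_centric h hE.1 hz.1
    refine ⟨hCE, fun α hα => autFun_image_eq α hCE ?_⟩
    by_cases habE : IsMulCommutative ↥E
    · obtain ⟨γ1, hγ1, hγ1m⟩ := exists_move hE habE
      have hle : ∀ g ∈ F.autGroup E, ∀ z ∈ C, z ∈ mapAut g (ctr S) := by
        intro g hg z hz
        by_cases hgm : mapAut g (ctr S) = ctr S
        · rw [hgm]; exact hz.1
        · obtain ⟨e, he, hfe, -⟩ := exists_inverts h hcrit hF hE habE (hessA hE) hp2 hg hgm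
          exact (hfe z hz.1).mp ((Inverts.unique h hcrit hF he he0 hz.1).trans hz.2)
      obtain ⟨e1, he1, hfe1, -⟩ := exists_inverts h hcrit hF hE habE (hessA hE) hp2 hγ1 hγ1m
      intro z hz
      have hback : ∀ g : MulAut E, z ∈ mapAut (α⁻¹ * g) (ctr S) → autFun α z ∈ mapAut g (ctr S) := by
        intro g hzg
        obtain ⟨q, hq, hqE, hqe⟩ := mem_mapAut.mp hzg
        refine mem_mapAut.mpr ⟨q, hq, hqE, ?_⟩
        rw [← hqe, autFun_of_mem (α⁻¹ * g) hqE, autFun_coe, autFun_of_mem g hqE]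
        exact congrArg Subtype.val (α.apply_symm_apply _).symm
      have hz1 : autFun α z ∈ ctr S := by
        have := hback 1 (hle _ (mul_mem (inv_mem hα) (one_mem _)) z hz)
        obtain ⟨q, hq, hqE, hqe⟩ := mem_mapAut.mp this
        rw [← hqe, autFun_one hqE]
        exact hq
      refine ⟨hz1, ?_⟩
      have h3 := (hfe1 _ hz1).mpr (hback γ1 (hle _ (mul_mem (inv_mem hα) hγ1) z hz))
      exact (Inverts.unique h hcrit hF he0 he1 hz1).trans h3
    · exact hkey hE.1.1 (not_le_A h hE.1 (hessA hE))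
        ((nonabelian_data h hF hE (hessA hE) habE).1 ▸ inf_le_left) (ctr_le_centric h hE.1) hα
        fun β z hz => ctr_invariant h hF hE habE hz

end Cfsg.Agent.AbelianIndexP
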