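import Cfsg.Agent.AbelianIndexP.Basic
import Cfsg.Agent.Lib.Fusion.Normal

/-!
# Essential subgroups over a p-group with a unique abelian subgroup of index p
-/

set_option autoImplicit false
set_option linter.unusedSectionVars false
set_option linter.style.haveILetI false

namespace Cfsg.Agent.AbelianIndexP

open Cfsg
open Cfsg.Agent.Fusion
open Cfsg.FusionSystem (normalizerIn centralizerIn)
open scoped commutatorElement Pointwise

variable {Ω : Type*} [Group Ω]

/-- The image of a subgroup under an automorphism of `P`. -/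
def mapAut {P : Subgroup Ω} (α : MulAut P) (Q : Subgroup Ω) : Subgroup Ω :=
  (Q.subgroupOf P).map (P.subtype.comp α.toMonoidHom)

theorem mem_mapAut {P Q : Subgroup Ω} {α : MulAut P} {y : Ω} :
    y ∈ mapAut α Q ↔ ∃ q ∈ Q, q ∈ P ∧ autFun α q = y :=
  ⟨fun ⟨q, hq, e⟩ => ⟨q, hq, q.2, (autFun_coe α q).trans e⟩,
    fun ⟨q, hq, hqP, e⟩ => ⟨⟨q, hqP⟩, hq, (autFun_of_mem α hqP).symm.trans e⟩⟩

theorem mapAut_le {P : Subgroup Ω} (α : MulAut P) (Q : Subgroup Ω) : mapAut α Q ≤ P := by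
  rintro y ⟨q, -, rfl⟩
  exact (α q).2

theorem card_mapAut {P Q : Subgroup Ω} (α : MulAut P) (h : Q ≤ P) :
    Nat.card (mapAut α Q) = Nat.card Q := by
  rw [mapAut, ← Nat.card_congr (Subgroup.equivMapOfInjective _ _
    (Subtype.val_injective.comp α.injective)).toEquiv,
    Nat.card_congr (Subgroup.subgroupOfEquivOfLe h).toEquiv]

theorem autFun_image_eq {P Q : Subgroup Ω} [Finite Q] (α : MulAut P) (h : Q ≤ P)
    (hm : ∀ q ∈ Q, autFun α q ∈ Q) : autFun α '' (Q : Set Ω) = (Q : Set Ω) := by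
  have he : mapAut α Q = Q := Subgroup.eq_of_le_of_card_ge
    (fun y hy => by obtain ⟨q, hq, -, rfl⟩ := mem_mapAut.mp hy; exact hm q hq)
    (card_mapAut α h).ge
  ext y
  refine ⟨?_, fun hy => ?_⟩
  · rintro ⟨q, hq, rfl⟩
    exact hm q hq
  · rw [SetLike.mem_coe, ← he] at hy
    obtain ⟨q, hq, -, e⟩ := mem_mapAut.mp hy
    exact ⟨q, hq, e⟩

variable {S : Subgroup Ω}

/-- Automorphisms of `P` stabilising the chain `1 ≤ W ≤ P`. -/
def stab (F : FusionSystem S) (P W : Subgroup Ω) : Subgroup (F.autGroup P) where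
  carrier := {g | (∀ w : P, (w : Ω) ∈ W → (g : MulAut P) w = w) ∧
    ∀ y : P, ((y⁻¹ * (g : MulAut P) y : P) : Ω) ∈ W}
  one_mem' := ⟨fun w _ => rfl, fun y => by simp [one_mem]⟩
  mul_mem' {g k} hg hk := ⟨fun w hw => by
      rw [Subgroup.coe_mul, MulAut.mul_apply, hk.1 w hw, hg.1 w hw],
    fun y => by
      have e : y⁻¹ * ((g * k : F.autGroup P) : MulAut P) y =
          (y⁻¹ * (g : MulAut P) y) * (y⁻¹ * (k : MulAut P) y) := by
        rw [Subgroup.coe_mul, MulAut.mul_apply, mul_assoc]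
        congr 1
        rw [← hg.1 _ (hk.2 y), ← map_mul, mul_inv_cancel_left]
      rw [e, Subgroup.coe_mul]
      exact mul_mem (hg.2 y) (hk.2 y)⟩
  inv_mem' {g} hg := ⟨fun w hw => by
      rw [Subgroup.coe_inv]
      conv_lhs => rw [← hg.1 w hw]
      exact (g : MulAut P).symm_apply_apply w,
    fun y => by
      set v := ((g⁻¹ : F.autGroup P) : MulAut P) y with hv
      have h1 : (g : MulAut P) v = y := (g : MulAut P).apply_symm_apply y
      have h2 := inv_mem (hg.2 v)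
      rw [← Subgroup.coe_inv, h1, mul_inv_rev, inv_inv] at h2
      exact h2⟩

variable {p : ℕ} [hp : Fact p.Prime] [Finite S] {F : FusionSystem S}

theorem isPGroup_stab (hS : IsPGroup p S) {P W : Subgroup Ω} (hWP : W ≤ P) (hP : P ≤ S) :
    IsPGroup p (stab F P W) := by
  haveI := finite_of_le (hWP.trans hP)
  obtain ⟨k, hk⟩ := IsPGroup.iff_card.mp (hS.to_le (hWP.trans hP))
  intro g
  refine ⟨k, Subtype.ext (Subtype.ext (MulEquiv.ext fun y => ?_))⟩
  set d := ((g : F.autGroup P) : MulAut P) with hd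
  set w := y⁻¹ * d y with hw
  have hwW : (w : Ω) ∈ W := g.2.2 y
  have hiter : ∀ j : ℕ, (d ^ j) y = y * w ^ j := by
    intro j
    induction j with
    | zero => simp
    | succ j ih =>
      rw [pow_succ', MulAut.mul_apply, ih, map_mul, map_pow, g.2.1 w hwW, hw, pow_succ',
        ← mul_assoc, mul_inv_cancel_left]
  have hw1 : w ^ p ^ k = 1 := by
    apply Subtype.ext
    have h1 := pow_card_eq_one' (G := W) (x := ⟨w, hwW⟩)
    rw [hk] at h1
    simpa using congrArg Subtype.val h1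
  have := hiter (p ^ k)
  rw [hw1, mul_one] at this
  simpa [hd] using this

theorem mul_le_card_of_lt (hS : IsPGroup p S) {B C : Subgroup Ω} (hBC : B < C) (hC : C ≤ S) :
    p * Nat.card B ≤ Nat.card C := by
  haveI := finite_of_le hC
  obtain ⟨c, hc⟩ := Subgroup.card_dvd_of_le hBC.le
  obtain ⟨k, hk⟩ := IsPGroup.iff_card.mp (hS.to_le hC)
  obtain ⟨j, -, rfl⟩ := (Nat.dvd_prime_pow hp.out).mp (hk ▸ hc ▸ dvd_mul_left c _ : c ∣ p ^ k)
  rcases Nat.eq_zero_or_pos j with rfl | hj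
  · exact absurd (Subgroup.eq_of_le_of_card_ge hBC.le (by rw [hc, pow_zero, mul_one])) hBC.ne
  · rw [hc, mul_comm p]
    exact Nat.mul_le_mul_left _ (Nat.le_self_pow (by omega) p)

theorem lt_of_essential (hS : IsPGroup p S) (hF : F.IsSaturated p) {P : Subgroup Ω}
    (hP : F.IsEssential p P) : P < S := by
  refine lt_of_le_of_ne hP.1.1 fun e => ?_
  subst e
  obtain ⟨-, hn, hN, E, hE⟩ := hP
  haveI := finite_mulAut P
  obtain ⟨T, hT⟩ := exists_outSylow hS hF hn
  obtain ⟨P', hP'⟩ := LocalEven61.exists_sylow_le_of_normalizersLE (LocalEven61.dvd_card_of_spe hE)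
    (LocalEven61.normalizersLE_of_spe hE)
  have hbot : T.toSubgroup = ⊥ := by
    refine eq_bot_iff.mpr fun q hq => ?_
    obtain ⟨β, rfl⟩ := QuotientGroup.mk'_surjective _ q
    rw [hT, autInducedBy_self_eq_inn] at hq
    rw [Subgroup.mem_bot, QuotientGroup.mk'_apply, QuotientGroup.eq_one_iff]
    exact hq
  have h1 := T.not_dvd_index
  rw [hbot, Subgroup.index_bot] at h1
  exact h1 hE.1

variable {A : Subgroup Ω} (h : Setup p S A) {P : Subgroup Ω}

include h

theorem comm_mem_derived {x : Ω} (hx : x ∈ S) (hxA : x ∉ A) {a b : Ω} (ha : a ∈ S) (hb : b ∈ S) :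
    ⁅a, b⁆ ∈ img x A := by
  rw [← derived_eq h hx hxA, Subgroup.map_subtype_commutator]
  exact Subgroup.commutator_mem_commutator ha hb

theorem ctr_le_centric (hc : F.IsCentric P) : ctr S ≤ P := fun z hz =>
  hc.2 P (Fusion.isConj_refl hc.1) ⟨hz.1,
    Subgroup.mem_centralizer_iff.mpr fun y hy => ctr_comm hz (hc.1 hy)⟩

theorem not_le_A (hc : F.IsCentric P) (hPA : P ≠ A) : ¬ P ≤ A := fun hle =>
  hPA (le_antisymm hle fun a ha => hc.2 P (Fusion.isConj_refl hc.1) ⟨h.le ha,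
    Subgroup.mem_centralizer_iff.mpr fun y hy => h.comm y (hle hy) a ha⟩)

theorem eq_sup_zpowers (hP : P ≤ S) {x : Ω} (hx : x ∈ P) (hxA : x ∉ A) :
    P = (P ⊓ A) ⊔ Subgroup.zpowers x := by
  refine le_antisymm (fun y hy => ?_) (sup_le inf_le_left (Subgroup.zpowers_le.mpr hx))
  obtain ⟨a, ha, n, rfl⟩ := exists_eq h (hP hx) hxA (hP hy)
  have haP : a ∈ P := by simpa using mul_mem hy (inv_mem (pow_mem hx n))
  exact mul_mem (Subgroup.mem_sup_left ⟨haP, ha⟩)
    (Subgroup.mem_sup_right (pow_mem (Subgroup.mem_zpowers x) n))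

/-- An element of `A` moving `x` only inside `Q` moves all of `P` only inside `Q`. -/
theorem comm_mem_of_comm_mem {Q : Subgroup Ω} (hP : P ≤ S) {x : Ω} (hx : x ∈ P) (hxA : x ∉ A)
    (hQx : ∀ q ∈ Q, x * q * x⁻¹ ∈ Q) {a : Ω} (ha : a ∈ A) (hax : ⁅a, x⁆ ∈ Q) :
    ∀ y ∈ P, ⁅a, y⁆ ∈ Q := by
  intro y hy
  obtain ⟨b, hb, n, rfl⟩ := exists_eq h (hP hx) hxA (hP hy)
  have hpow : ∀ n : ℕ, ⁅a, x ^ n⁆ ∈ Q := by
    intro n
    induction n with
    | zero => rw [pow_zero, commutatorElement_one_right]; exact one_mem _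
    | succ n ih =>
      have e : ⁅a, x ^ (n + 1)⁆ = ⁅a, x⁆ * (x * ⁅a, x ^ n⁆ * x⁻¹) := by
        rw [commutatorElement_def, commutatorElement_def, commutatorElement_def, pow_succ']
        group
      rw [e]
      exact mul_mem hax (hQx _ ih)
  have hxn : x ^ n ∈ S := pow_mem (hP hx) n
  have e : ⁅a, b * x ^ n⁆ = ⁅a, b⁆ * (b * ⁅a, x ^ n⁆ * b⁻¹) := by
    rw [commutatorElement_def, commutatorElement_def, commutatorElement_def]; group
  rw [e, commutatorElement_eq_one_iff_mul_comm.mpr (h.comm a ha b hb), one_mul,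
    h.comm b hb _ (comm_mem_A h ha hxn), mul_inv_cancel_right]
  exact hpow n

theorem mem_normalizer_of_comm_mem (hP : P ≤ S) {a : Ω} (hy : ∀ y ∈ P, ⁅a, y⁆ ∈ P) :
    a ∈ Subgroup.normalizer (P : Set Ω) := by
  haveI := finite_of_le hP
  refine Subgroup.mem_normalizer_iff.mpr fun y => ?_
  have hm : ∀ y ∈ P, a * y * a⁻¹ ∈ P := fun y hyP => by
    have e : a * y * a⁻¹ = ⁅a, y⁆ * y := by rw [commutatorElement_def]; group
    rw [e]; exact mul_mem (hy y hyP) hyP
  refine ⟨hm y, fun hc => ?_⟩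
  obtain ⟨z, hz⟩ := (Finite.injective_iff_surjective.mp
    (show Function.Injective (fun z : P => (⟨a * z * a⁻¹, hm z z.2⟩ : P)) from
      fun u v e => Subtype.ext (mul_left_cancel (mul_right_cancel (congrArg Subtype.val e))))) ⟨_, hc⟩
  rw [← mul_left_cancel (mul_right_cancel (congrArg Subtype.val hz))]
  exact z.2

/-- An element of `A` stabilising an invariant chain `1 ≤ Q ≤ P` lies in `P`. -/
theorem mem_of_invariant (hP : F.IsEssential p P) {Q : Subgroup Ω} (hQA : Q ≤ A) (hQP : Q ≤ P)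
    (hinv : ∀ α ∈ F.autGroup P, ∀ q ∈ Q, autFun α q ∈ Q) {x : Ω} (hx : x ∈ P) (hxA : x ∉ A)
    {a : Ω} (ha : a ∈ A) (hax : ⁅a, x⁆ ∈ Q) : a ∈ P := by
  haveI := finite_of_le (hQP.trans hP.1.1)
  have hQc : ∀ y ∈ P, ∀ q ∈ Q, y * q * y⁻¹ ∈ Q := fun y hy q hq => by
    have := hinv _ (inn_le_autGroup hP.1.1 (mem_inn.mpr ⟨y, hy, fun _ => rfl⟩ :
      MulAut.conj (⟨y, hy⟩ : P) ∈ Cfsg.Inn P)) q hq
    rwa [autFun_of_mem _ (hQP hq)] at this
  have hcm := comm_mem_of_comm_mem h hP.1.1 hx hxA (hQc x hx) ha hax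
  have hN := mem_normalizer_of_comm_mem h hP.1.1 fun y hy => hQP (hcm y hy)
  refine radical_chain h.pS hP.1 (isRadical_of_essential h.pS hP)
    (fun i => if i = 0 then ⊥ else if i = 1 then Q else P) 2 (fun i => ?_) rfl rfl ?_
    (g := a) ⟨h.le ha, hN⟩ ?_
  · split
    · exact bot_le
    · split
      · exact hQP
      · exact le_rfl
  · intro i hi α hα
    interval_cases i
    · simp only [if_true, Subgroup.coe_bot, Set.image_singleton]
      rw [autFun_of_mem α P.one_mem]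
      simp
    · show autFun α '' (Q : Set Ω) = Q
      exact autFun_image_eq α hQP (hinv α hα)
    · show autFun α '' (P : Set Ω) = P
      exact autFun_image α
  · intro i hi y hy
    interval_cases i
    · change y ∈ Q at hy
      show y⁻¹ * (a * y * a⁻¹) ∈ (⊥ : Subgroup Ω)
      rw [Subgroup.mem_bot, h.comm a ha y (hQA hy)]
      group
    · change y ∈ P at hy
      have e : y⁻¹ * (a * y * a⁻¹) = y⁻¹ * ⁅a, y⁆ * y := by rw [commutatorElement_def]; group
      rw [e]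
      simpa using hQc _ (inv_mem hy) _ (hcm y hy)

variable (hF : F.IsSaturated p) (hP : F.IsEssential p P) (hPA : P ≠ A)

include hF hP hPA

/-- `N_A(P)` is larger than `P ∩ A`. -/
theorem exists_normalizing {x : Ω} (hx : x ∈ P) (hxA : x ∉ A) :
    ∃ a ∈ A, a ∉ P ∧ ⁅a, x⁆ ∈ P ⊓ A := by
  obtain ⟨g, hg, hgP⟩ := SetLike.exists_of_lt (lt_normalizerIn h.pS (lt_of_essential h.pS hF hP))
  obtain ⟨a, ha, n, rfl⟩ := exists_eq h (hP.1.1 hx) hxA hg.1
  have hxn : x ^ n ∈ P := pow_mem hx n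
  have haN : a ∈ Subgroup.normalizer (P : Set Ω) := by
    simpa using Subgroup.mul_mem _ hg.2 (Subgroup.inv_mem _ (P.le_normalizer hxn))
  refine ⟨a, ha, fun haP => hgP (mul_mem haP hxn), ?_, comm_mem_A h ha (hP.1.1 hx)⟩
  exact P.mul_mem (conj_mem_of_mem_normalizer haN hx) (P.inv_mem hx)

/-- `P ∩ A` is not invariant under the automorphisms of `P`. -/
theorem exists_moving : ∃ α ∈ F.autGroup P, ∃ q ∈ P ⊓ A, autFun α q ∉ A := by
  by_contra hno
  push Not at hno
  obtain ⟨x, hx, hxA⟩ := SetLike.not_le_iff_exists.mp (not_le_A h hP.1 hPA)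
  obtain ⟨a, ha, haP, hax⟩ := exists_normalizing h hF hP hPA hx hxA
  refine haP (mem_of_invariant h hP inf_le_right inf_le_left (fun α hα q hq => ⟨?_, hno α hα q hq⟩)
    hx hxA ha hax)
  rw [autFun_of_mem α hq.1]
  exact Subtype.mem _

omit hPA in
theorem ctr_invariant (hab : ¬ IsMulCommutative ↥P) {α : MulAut P} {z : Ω} (hz : z ∈ ctr S) :
    autFun α z ∈ ctr S := by
  have hzP := ctr_le_centric h hP.1 hz
  rw [autFun_of_mem α hzP]
  set w := α ⟨z, hzP⟩
  have hw : ∀ y : P, y * w = w * y := fun y => by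
    obtain ⟨y, rfl⟩ := α.surjective y
    rw [← map_mul, ← map_mul]
    congr 1
    exact Subtype.ext (ctr_comm hz (hP.1.1 y.2))
  by_cases hwA : (w : Ω) ∈ A
  · obtain ⟨x, hx, hxA⟩ := SetLike.not_le_iff_exists.mp
      (not_le_A h hP.1 fun e => hab (e ▸ isMulCommutative_of_comm h.comm))
    exact mem_ctr_of_comm h (hP.1.1 hx) hxA hwA (congrArg Subtype.val (hw ⟨x, hx⟩)).symm
  · refine absurd (isMulCommutative_of_comm fun u hu v hv => ?_) hab
    rw [eq_sup_zpowers h hP.1.1 w.2 hwA, ← Subgroup.closure_eq (P ⊓ A), Subgroup.zpowers_eq_closure,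
      ← Subgroup.closure_union] at hu hv
    refine comm_of_isMulCommutative (Subgroup.isMulCommutative_closure ?_) u hu v hv
    rintro a (ha | rfl) b (hb | rfl)
    · exact h.comm a ha.2 b hb.2
    · exact congrArg Subtype.val (hw ⟨a, ha.1⟩)
    · exact (congrArg Subtype.val (hw ⟨b, hb.1⟩)).symm
    · rfl

theorem nonabelian_data (hab : ¬ IsMulCommutative ↥P) :
    P ⊓ A = ctr2 S ⊓ A ∧ Nat.card (ctr2 S ⊓ A : Subgroup Ω) = p * Nat.card (ctr S) ∧
      ∀ a ∈ P, ∀ b ∈ P, ⁅a, b⁆ ∈ ctr S := by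
  have hPS := hP.1.1
  obtain ⟨α, hα, q, hq, hqA⟩ := exists_moving h hF hP hPA
  set x := autFun α q with hxdef
  have hx : x ∈ P := by rw [hxdef, autFun_of_mem α hq.1]; exact Subtype.mem _
  set P1 := mapAut α (P ⊓ A) with hP1
  have hxP1 : x ∈ P1 := mem_mapAut.mpr ⟨q, hq, hq.1, rfl⟩
  have hP1A : A ⊓ P1 ≤ ctr S := by
    intro y hy
    refine mem_ctr_of_comm h (hPS hx) hqA hy.1 ?_
    obtain ⟨u, hu, huP, hue⟩ := mem_mapAut.mp hy.2
    rw [← hue, hxdef, autFun_of_mem α huP, autFun_of_mem α hq.1, ← Subgroup.coe_mul, ← map_mul,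
      ← Subgroup.coe_mul, ← map_mul]
    congr 2
    exact Subtype.ext (h.comm u hu.2 q hq.2)
  have hcomm : ∀ a ∈ P, ∀ b ∈ P, ⁅a, b⁆ ∈ ctr S := by
    intro a ha b hb
    have hA : ∀ a ∈ P, ∀ b ∈ P, ⁅a, b⁆ ∈ P ⊓ A := fun a ha b hb =>
      ⟨P.mul_mem (P.mul_mem (P.mul_mem ha hb) (P.inv_mem ha)) (P.inv_mem hb),
        img_le h (hPS hx) le_rfl (comm_mem_derived h (hPS hx) hqA (hPS ha) (hPS hb))⟩
    refine hP1A ⟨(hA a ha b hb).2, ?_⟩
    obtain ⟨u, hu⟩ := α.surjective ⟨a, ha⟩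
    obtain ⟨v, hv⟩ := α.surjective ⟨b, hb⟩
    have h1 := hA u u.2 v v.2
    refine mem_mapAut.mpr ⟨_, h1, h1.1, ?_⟩
    rw [autFun_of_mem α h1.1, show (⟨⁅(u : Ω), v⁆, h1.1⟩ : P) = ⁅u, v⁆ from rfl,
      map_commutatorElement, hu, hv]
    rfl
  have hPA2 : P ⊓ A = ctr2 S ⊓ A := by
    refine le_antisymm (fun a ha => ⟨(mem_ctr2_iff h (hPS hx) hqA ha.2).mpr
      (hcomm a ha.1 x hx), ha.2⟩) fun a ha => ⟨?_, ha.2⟩
    exact mem_of_invariant h hP (ctr_le h) (ctr_le_centric h hP.1)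
      (fun β _ z hz => ctr_invariant h hF hP hab hz) hx hqA ha.2
      ((mem_ctr2_iff h (hPS hx) hqA ha.2).mp ha.1)
  refine ⟨hPA2, ?_, hcomm⟩
  rw [← hPA2, ← card_mapAut α (inf_le_left : P ⊓ A ≤ P),
    card_eq_mul_inf h ((mapAut_le α _).trans hPS) fun hle => hqA (hle hxP1)]
  congr 2
  congr 1
  refine le_antisymm hP1A (le_inf (ctr_le h) fun z hz => ?_)
  haveI := finite_of_le ((inf_le_left : ctr S ≤ S))
  rw [← SetLike.mem_coe, ← autFun_image_eq α (ctr_le_centric h hP.1)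
    (fun w hw => ctr_invariant h hF hP hab hw)] at hz
  obtain ⟨w, hw, hwz⟩ := hz
  exact mem_mapAut.mpr ⟨w, ⟨ctr_le_centric h hP.1 hw, ctr_le h hw⟩, ctr_le_centric h hP.1 hw, hwz⟩

omit hF hPA in
theorem inf_eq_ctr (hab : IsMulCommutative ↥P) {x : Ω} (hx : x ∈ P) (hxA : x ∉ A) :
    P ⊓ A = ctr S :=
  le_antisymm (fun a ha => mem_ctr_of_comm h (hP.1.1 hx) hxA ha.2
      (comm_of_isMulCommutative hab a ha.1 x hx))
    (le_inf (ctr_le_centric h hP.1) (ctr_le h))

omit hPA in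
/-- There is an automorphism moving the Sylow subgroup `Aut_S(P)` off itself. -/
theorem exists_offConj (hab : IsMulCommutative ↥P) :
    ∃ γ ∈ F.autGroup P, ∀ β : MulAut P, β ∈ autInducedBy S P → γ * β * γ⁻¹ ∈ autInducedBy S P →
      β = 1 := by
  obtain ⟨-, hn, hN, E, hE⟩ := id hP
  haveI := finite_of_le hP.1.1
  haveI := finite_mulAut P
  obtain ⟨T, hT⟩ := exists_outSylow h.pS hF hn
  have hne := closure_linkSet_ne_top T hE
  obtain ⟨γ', hγ'⟩ : ∃ γ', γ' ∉ linkSet T.toSubgroup := by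
    by_contra hall
    push Not at hall
    exact hne (eq_top_iff.mpr fun y _ => Subgroup.subset_closure (hall y))
  obtain ⟨γ, rfl⟩ := QuotientGroup.mk'_surjective _ γ'
  refine ⟨γ, γ.2, fun β hβ hγβ => ?_⟩
  by_contra hβ1
  refine hγ' ⟨QuotientGroup.mk' _ ⟨β, autInducedBy_le_autGroup hP.1.1 hβ⟩, (hT _).mpr hβ,
    fun e => hβ1 ?_, ?_⟩
  · rw [QuotientGroup.mk'_apply, QuotientGroup.eq_one_iff, Subgroup.mem_subgroupOf, mem_inn] at e
    obtain ⟨u, hu, hue⟩ := e
    refine MulEquiv.ext fun y => Subtype.ext ((hue y).trans ?_)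
    rw [comm_of_isMulCommutative hab u hu y y.2, mul_inv_cancel_right]
    rfl
  · rw [← map_inv, ← map_mul, ← map_mul, hT]
    exact hγβ

omit hPA in
/-- Automorphisms stabilising a chain `1 ≤ W ≤ P` with `W` central are induced by `S`. -/
theorem stab_le {W : Subgroup Ω} (hW : W ≤ ctr S) {g : F.autGroup P} (hg : g ∈ stab F P W) :
    (g : MulAut P) ∈ autInducedBy S P := by
  haveI := finite_of_le hP.1.1
  haveI := finite_mulAut P
  obtain ⟨T, hT⟩ := (fullyAutomized_of_fullyNormalized h.pS hF hP.2.1).2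
  have hWP : W ≤ P := hW.trans (ctr_le_centric h hP.1)
  have hnorm : (T : Subgroup (F.autGroup P)) ≤ Subgroup.normalizer (stab F P W : Set (F.autGroup P)) := by
    intro β hβ
    rw [hT, Subgroup.mem_subgroupOf, mem_autInducedBy] at hβ
    obtain ⟨s, hs, hsβ⟩ := hβ
    have hfix : ∀ w : P, (w : Ω) ∈ W → (β : MulAut P) w = w := fun w hw => Subtype.ext (by
      rw [hsβ, ctr_conj (hW hw) hs])
    have key : ∀ β : F.autGroup P, (∀ w : P, (w : Ω) ∈ W → (β : MulAut P) w = w) →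
        ∀ g ∈ stab F P W, β * g * β⁻¹ ∈ stab F P W := by
      intro β hfix g hg
      have hfix' : ∀ w : P, (w : Ω) ∈ W → ((β : MulAut P)⁻¹) w = w := fun w hw => by
        conv_lhs => rw [← hfix w hw]
        exact (β : MulAut P).symm_apply_apply w
      refine ⟨fun w hw => ?_, fun y => ?_⟩
      · simp only [Subgroup.coe_mul, Subgroup.coe_inv, MulAut.mul_apply]
        rw [hfix' w hw, hg.1 w hw, hfix w hw]
      · set u := ((β : MulAut P)⁻¹) y with hu
        have hy : (β : MulAut P) u = y := (β : MulAut P).apply_symm_apply y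
        have e : y⁻¹ * ((β * g * β⁻¹ : F.autGroup P) : MulAut P) y = u⁻¹ * (g : MulAut P) u := by
          show y⁻¹ * (β : MulAut P) ((g : MulAut P) u) = _
          rw [← hy, ← map_inv, ← map_mul, hfix _ (hg.2 u)]
        rw [e]
        exact hg.2 u
    refine Subgroup.mem_normalizer_iff.mpr fun g => ⟨key β hfix g, fun hc => ?_⟩
    have := key β⁻¹ (fun w hw => by
      conv_lhs => rw [← hfix w hw]
      exact (β : MulAut P).symm_apply_apply w) _ hc
    simpa [mul_assoc] using this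
  have hsup := IsPGroup.to_sup_of_normal_left' (isPGroup_stab (F := F) h.pS hWP hP.1.1) T.isPGroup' hnorm
  have h1 : g ∈ (T : Subgroup (F.autGroup P)) :=
    (T.is_maximal' hsup le_sup_right).le (Subgroup.mem_sup_left hg)
  rw [hT] at h1
  exact h1

omit hPA in
/-- For such an automorphism `γ`, nothing stabilises `1 ≤ Z ∩ γZ ≤ P`. -/
theorem stab_inter_eq_one {γ : MulAut P} (hγ : γ ∈ F.autGroup P)
    (hoff : ∀ β : MulAut P, β ∈ autInducedBy S P → γ * β * γ⁻¹ ∈ autInducedBy S P → β = 1)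
    {g : F.autGroup P} (hg : g ∈ stab F P (ctr S ⊓ mapAut γ (ctr S))) : g = 1 := by
  set γ' : F.autGroup P := ⟨γ, hγ⟩ with hγ'
  set W := ctr S ⊓ mapAut γ (ctr S) with hW
  have hW' : mapAut γ⁻¹ W ≤ ctr S := by
    intro y hy
    obtain ⟨w, hw, hwP, rfl⟩ := mem_mapAut.mp hy
    obtain ⟨z, hz, hzP, hze⟩ := mem_mapAut.mp hw.2
    subst hze
    rw [autFun_of_mem γ hzP, autFun_coe]
    show ((γ.symm (γ ⟨z, hzP⟩) : P) : Ω) ∈ ctr S
    rw [MulEquiv.symm_apply_apply]
    exact hz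
  have hmem : γ'⁻¹ * g * γ' ∈ stab F P (mapAut γ⁻¹ W) := by
    refine ⟨fun w hw => ?_, fun y => ?_⟩
    · obtain ⟨v, hv, hvP, hve⟩ := mem_mapAut.mp hw
      have hwv : w = γ⁻¹ ⟨v, hvP⟩ := Subtype.ext (hve.symm.trans (autFun_of_mem _ hvP))
      simp only [Subgroup.coe_mul, Subgroup.coe_inv, MulAut.mul_apply, hγ', hwv]
      rw [show γ (γ⁻¹ ⟨v, hvP⟩) = ⟨v, hvP⟩ from γ.apply_symm_apply _, hg.1 ⟨v, hvP⟩ hv]
    · have e : y⁻¹ * ((γ'⁻¹ * g * γ' : F.autGroup P) : MulAut P) y =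
          γ⁻¹ ((γ y)⁻¹ * (g : MulAut P) (γ y)) := by
        show y⁻¹ * γ⁻¹ ((g : MulAut P) (γ y)) = _
        rw [map_mul, map_inv]
        congr 2
        exact (γ.symm_apply_apply y).symm
      rw [e]
      exact mem_mapAut.mpr ⟨_, hg.2 (γ y), Subtype.mem _, autFun_coe _ _⟩
  have h2 := stab_le h hF hP (W := ctr S ⊓ mapAut γ (ctr S)) inf_le_left hg
  have h3 := hoff _ (stab_le h hF hP hW' hmem) (by
    simpa [hγ', mul_assoc] using h2)
  apply Subtype.ext
  simpa [hγ', mul_assoc, inv_mul_eq_one, mul_eq_one_iff_eq_inv] using h3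

omit hPA in
/-- An element of `A` moving `x` inside `Z ∩ γZ` is central. -/
theorem mem_ctr_of_comm_mem (hab : IsMulCommutative ↥P) {γ : MulAut P} (hγ : γ ∈ F.autGroup P)
    (hoff : ∀ β : MulAut P, β ∈ autInducedBy S P → γ * β * γ⁻¹ ∈ autInducedBy S P → β = 1)
    {x : Ω} (hx : x ∈ P) (hxA : x ∉ A) {a : Ω} (ha : a ∈ A)
    (hax : ⁅a, x⁆ ∈ ctr S ⊓ mapAut γ (ctr S)) : a ∈ ctr S := by
  set W := ctr S ⊓ mapAut γ (ctr S) with hW
  have hcm := comm_mem_of_comm_mem h hP.1.1 hx hxA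
    (fun q hq => by rw [ctr_conj hq.1 (hP.1.1 hx)]; exact hq) ha hax
  have hWP : W ≤ P := inf_le_left.trans (ctr_le_centric h hP.1)
  have hN : a ∈ normalizerIn S P :=
    ⟨h.le ha, mem_normalizer_of_comm_mem h hP.1.1 fun y hy => hWP (hcm y hy)⟩
  have hm : conjAutHom S P ⟨a, hN⟩ ∈ autInducedBy S P := by
    rw [← range_conjAutHom]; exact ⟨_, rfl⟩
  have hst : (⟨_, autInducedBy_le_autGroup hP.1.1 hm⟩ : F.autGroup P) ∈ stab F P W := by
    refine ⟨fun w hw => Subtype.ext ?_, fun y => ?_⟩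
    · rw [conjAutHom_apply]
      exact ctr_conj hw.1 (h.le ha)
    · rw [Subgroup.coe_mul, Subgroup.coe_inv, conjAutHom_apply]
      have e : (y : Ω)⁻¹ * (a * y * a⁻¹) = (y : Ω)⁻¹ * ⁅a, (y : Ω)⁆ * y := by
        rw [commutatorElement_def]; group
      have hc := (hcm y y.2)
      show (y : Ω)⁻¹ * (a * y * a⁻¹) ∈ W
      rw [e, mul_assoc, ← ctr_comm hc.1 (hP.1.1 y.2), inv_mul_cancel_left]
      exact hc
  have h1 := stab_inter_eq_one h hF hP hγ hoff hst
  refine mem_ctr_of_comm h (hP.1.1 hx) hxA ha (mul_inv_eq_iff_eq_mul.mp ?_)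
  have := congrArg (fun g : F.autGroup P => ((g : MulAut P) ⟨x, hx⟩ : Ω)) h1
  simpa using this

theorem abelian_crit (hab : IsMulCommutative ↥P) :
    Nat.card (ctr2 S ⊓ A : Subgroup Ω) = p * Nat.card (ctr S) := by
  obtain ⟨x, hx, hxA⟩ := SetLike.not_le_iff_exists.mp (not_le_A h hP.1 hPA)
  have hPS := hP.1.1
  have hPAe := inf_eq_ctr h hP hab hx hxA
  obtain ⟨γ, hγ, hoff⟩ := exists_offConj h hF hP hab
  obtain ⟨a, ha, haP, hax⟩ := exists_normalizing h hF hP hPA hx hxA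
  rw [hPAe] at hax
  haveI := finite_of_le (inf_le_left : ctr S ≤ S)
  set W := ctr S ⊓ mapAut γ (ctr S) with hW
  have hmap : ¬ mapAut γ (ctr S) ≤ A := by
    intro hle
    have hWe : W = ctr S := inf_eq_left.mpr (Subgroup.eq_of_le_of_card_ge
      (fun y hy => hPAe ▸ ⟨mapAut_le γ _ hy, hle hy⟩)
      (card_mapAut γ (ctr_le_centric h hP.1)).ge).ge
    exact haP (ctr_le_centric h hP.1
      (mem_ctr_of_comm_mem h hF hP hab hγ hoff hx hxA ha (by rw [← hW, hWe]; exact hax)))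
  have hcardW : Nat.card (ctr S) = p * Nat.card W := by
    rw [← card_mapAut γ (ctr_le_centric h hP.1),
      card_eq_mul_inf h ((mapAut_le γ _).trans hPS) hmap]
    congr 2
    congr 1
    refine le_antisymm (fun y hy => ⟨hPAe ▸ ⟨mapAut_le γ _ hy.2, hy.1⟩, hy.2⟩) ?_
    exact inf_le_inf_right _ (ctr_le h)
  rw [card_img h (hPS hx) hxA inf_le_right, inf_eq_left.mpr (le_inf (ctr_le_ctr2 S) (ctr_le h)),
    img_ctr2 h (hPS hx) hxA, mul_comm p]
  congr 1
  set D := ctr S ⊓ img x A with hD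
  have hDW : ∀ d : Ω, d ∈ D → d ∈ W → d = 1 := by
    intro d hd hdW
    obtain ⟨b, hb, rfl⟩ := (mem_img h (hPS hx) le_rfl).mp hd.2
    exact comm_ctr h (mem_ctr_of_comm_mem h hF hP hab hγ hoff hx hxA hb hdW) (hPS hx)
  have hmulle : Nat.card D * Nat.card W ≤ p * Nat.card W := by
    rw [← hcardW, ← Nat.card_prod]
    refine Nat.card_le_card_of_injective (fun u => ⟨u.1 * u.2, mul_mem u.1.2.1 u.2.2.1⟩) ?_
    rintro ⟨d, w⟩ ⟨d', w'⟩ e
    have e' : (d : Ω) * w = d' * w' := congrArg Subtype.val e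
    have h2 : (d' : Ω)⁻¹ * d = w' * (w : Ω)⁻¹ := by
      rw [inv_mul_eq_iff_eq_mul, ← mul_assoc, ← e', mul_inv_cancel_right]
    have h3 := hDW _ (mul_mem (inv_mem d'.2) d.2) (h2 ▸ mul_mem w'.2 (inv_mem w.2))
    rw [h3] at h2
    simp only [Prod.mk.injEq]
    exact ⟨Subtype.ext (inv_mul_eq_one.mp h3).symm, Subtype.ext (mul_inv_eq_one.mp h2.symm).symm⟩
  haveI : Finite W := finite_of_le (inf_le_left.trans inf_le_left)
  have hne : D ≠ ⊥ := by
    intro hbot
    refine haP (ctr_le_centric h hP.1 ((comm_eq_one h ha (hPS hx) hxA).mp ?_))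
    rw [← Subgroup.mem_bot, ← hbot]
    exact ⟨hax, comm_mem_img ha⟩
  refine le_antisymm (Nat.le_of_mul_le_mul_right hmulle Nat.card_pos) ?_
  simpa using mul_le_card_of_lt h.pS (bot_lt_iff_ne_bot.mpr hne) (inf_le_left.trans inf_le_left)

theorem crit : Nat.card (ctr2 S ⊓ A : Subgroup Ω) = p * Nat.card (ctr S) := by
  by_cases hab : IsMulCommutative ↥P
  · exact abelian_crit h hF hP hPA hab
  · exact (nonabelian_data h hF hP hPA hab).2.1

/-- The normalizer of `P` in `S` contains `P` with index `p`. -/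
theorem index_normalizerIn : (P.subgroupOf (normalizerIn S P)).index = p := by
  have hPS := hP.1.1
  obtain ⟨x, hx, hxA⟩ := SetLike.not_le_iff_exists.mp (not_le_A h hP.1 hPA)
  set M := normalizerIn S P with hM
  haveI : Finite M := finite_of_le (normalizerIn_le S P)
  haveI : Finite P := finite_of_le hPS
  have hPM : P ≤ M := le_normalizerIn hPS
  set N := A ⊓ M with hN
  haveI : Finite N := finite_of_le (inf_le_right.trans (normalizerIn_le S P))
  have hlow : p * Nat.card (P ⊓ A : Subgroup Ω) ≤ Nat.card N := by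
    refine mul_le_card_of_lt h.pS (lt_of_le_of_ne (le_inf inf_le_right (inf_le_left.trans hPM)) ?_)
      (inf_le_left.trans h.le)
    intro e
    obtain ⟨a, ha, haP, hax⟩ := exists_normalizing h hF hP hPA hx hxA
    suffices haN : a ∈ Subgroup.normalizer (P : Set Ω) from
      haP (e.ge (show a ∈ A ⊓ normalizerIn S P from ⟨ha, h.le ha, haN⟩)).1
    refine mem_normalizer_of_comm_mem h hPS fun y hy =>
      (comm_mem_of_comm_mem h hPS hx hxA (Q := P ⊓ A) (fun q hq => ⟨?_, conj_mem_A h (hPS hx) hq.2⟩)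
        ha hax y hy).1
    exact P.mul_mem (P.mul_mem hx hq.1) (P.inv_mem hx)
  have himg : img x N ≤ (P ⊓ A) ⊓ img x A := by
    intro y hy
    obtain ⟨a, ha, rfl⟩ := (mem_img h (hPS hx) inf_le_left).mp hy
    exact ⟨⟨P.mul_mem (conj_mem_of_mem_normalizer ha.2.2 hx) (P.inv_mem hx),
      comm_mem_A h ha.1 (hPS hx)⟩, comm_mem_img ha.1⟩
  have hupp : Nat.card N ≤ p * Nat.card (P ⊓ A : Subgroup Ω) := by
    haveI : Finite (P ⊓ A : Subgroup Ω) := finite_of_le (inf_le_left.trans hPS)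
    rw [card_img h (hPS hx) hxA inf_le_left]
    have hcr := crit h hF hP hPA
    have hp' := card_ctr_inf_img h hcr (hPS hx) hxA
    haveI : Finite (ctr S ⊓ img x A : Subgroup Ω) := finite_of_le (inf_le_left.trans inf_le_left)
    by_cases hab : IsMulCommutative ↥P
    · rw [inf_eq_ctr h hP hab hx hxA] at himg ⊢
      rw [mul_comm p]
      exact Nat.mul_le_mul (Subgroup.card_le_of_le inf_le_left)
        ((Subgroup.card_le_of_le himg).trans hp'.le)
    · obtain ⟨hPA2, -, -⟩ := nonabelian_data h hF hP hPA hab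
      rw [hPA2, hcr]
      rw [hPA2] at himg
      set D := (ctr2 S ⊓ A) ⊓ img x A with hD
      haveI : Finite D := finite_of_le ((inf_le_left.trans inf_le_right).trans h.le)
      have hDA : D ≤ A := inf_le_left.trans inf_le_right
      have hDle : Nat.card D ≤ p * p := by
        rw [card_img h (hPS hx) hxA hDA]
        refine Nat.mul_le_mul ((Subgroup.card_le_of_le (inf_le_inf_left _ inf_le_right)).trans hp'.le)
          ((Subgroup.card_le_of_le ?_).trans hp'.le)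
        rw [← img_ctr2 h (hPS hx) hxA]
        exact img_mono inf_le_left
      calc _ ≤ Nat.card (ctr S) * Nat.card D :=
            Nat.mul_le_mul (Subgroup.card_le_of_le inf_le_left) (Subgroup.card_le_of_le himg)
        _ ≤ Nat.card (ctr S) * (p * p) := Nat.mul_le_mul_left _ hDle
        _ = _ := by ring
  have h1 := Subgroup.card_mul_index (P.subgroupOf M)
  rw [card_subgroupOf, inf_eq_left.mpr hPM,
    card_eq_mul_inf h (normalizerIn_le S P) fun hle => hxA (hle (hPM hx)),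
    card_eq_mul_inf h hPS fun hle => hxA (hle hx), ← hN, le_antisymm hupp hlow, inf_comm A P] at h1
  haveI : Finite (P ⊓ A : Subgroup Ω) := finite_of_le (inf_le_left.trans hPS)
  exact Nat.eq_of_mul_eq_mul_left (Nat.mul_pos hp.out.pos (Nat.card_pos (α := (P ⊓ A : Subgroup Ω))))
    (h1.trans (by ring))

end Cfsg.Agent.AbelianIndexP
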