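import Cfsg.Agent.AbelianIndexP.Essential

/-!
# The lower central series over a unique abelian subgroup of index p
-/

set_option autoImplicit false
set_option linter.unusedSectionVars false
set_option linter.style.haveILetI false

namespace Cfsg.Agent.AbelianIndexP

open Cfsg
open scoped commutatorElement

variable {Ω : Type*} [Group Ω] {p : ℕ} [hp : Fact p.Prime] {S A : Subgroup Ω} [Finite S]
  (h : Setup p S A)

include h

theorem iterate_img_le {x : Ω} (hx : x ∈ S) (i : ℕ) : (img x)^[i] A ≤ A := by
  induction i with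
  | zero => exact le_rfl
  | succ i ih =>
    rw [Function.iterate_succ_apply']
    exact img_le h hx ih

theorem iterate_img_le_lowerCentralSeries {x : Ω} (hx : x ∈ S) (i : ℕ) :
    (img x)^[i] A ≤ Subgroup.lowerCentralSeries S i := by
  induction i with
  | zero => exact h.le
  | succ i ih =>
    rw [Function.iterate_succ_apply', Subgroup.lowerCentralSeries_succ]
    refine (Subgroup.closure_le _).mpr ?_
    rintro _ ⟨a, ha, rfl⟩
    exact Subgroup.commutator_mem_commutator (ih ha) hx

variable (hcrit : Nat.card (ctr2 S ⊓ A : Subgroup Ω) = p * Nat.card (ctr S))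

include hcrit

theorem card_le_iterate {x : Ω} (hx : x ∈ S) (hxA : x ∉ A) (i : ℕ) :
    Nat.card A ≤ Nat.card (ctr S) * p ^ i * Nat.card ((img x)^[i + 1] A : Subgroup Ω) := by
  induction i with
  | zero => simpa using (card_img_A h hx hxA).le
  | succ i ih =>
    refine ih.trans ?_
    rw [pow_succ, ← mul_assoc, mul_assoc _ p]
    refine Nat.mul_le_mul_left _ ?_
    rw [card_img h hx hxA (iterate_img_le h hx (i + 1)), ← Function.iterate_succ_apply' (img x) (i + 1)]
    refine Nat.mul_le_mul_right _ ?_
    haveI : Finite (ctr S ⊓ img x A : Subgroup Ω) :=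
      Fusion.finite_of_le (inf_le_left.trans inf_le_left)
    refine (Subgroup.card_le_of_le (inf_le_inf_left _ ?_)).trans (card_ctr_inf_img h hcrit hx hxA).le
    rw [Function.iterate_succ_apply']
    exact img_mono (iterate_img_le h hx i)

/-- `S / Z(S)` has maximal class. -/
theorem lowerCentralSeries_not_le {m : ℕ} (hm : ((ctr S).subgroupOf S).index = p ^ m) (h3 : 3 ≤ m) :
    ¬ Subgroup.lowerCentralSeries S (m - 2) ≤ ctr S := by
  obtain ⟨x, hx, hxA⟩ := exists_not_mem h
  intro hle
  have hZ : Nat.card S = Nat.card (ctr S) * p ^ m := by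
    rw [← Subgroup.card_mul_index ((ctr S).subgroupOf S), card_subgroupOf,
      inf_eq_left.mpr inf_le_left, hm]
  obtain ⟨k, rfl⟩ : ∃ k, m = k + 2 := ⟨m - 2, by omega⟩
  rw [Nat.add_sub_cancel] at hle
  have hb : (img x)^[k + 1] A = ⊥ := by
    rw [Function.iterate_succ_apply', eq_bot_iff]
    refine (Subgroup.closure_le _).mpr ?_
    rintro _ ⟨a, ha, rfl⟩
    exact Subgroup.mem_bot.mpr
      (comm_ctr h (hle (iterate_img_le_lowerCentralSeries h hx k ha)) hx)
  have h1 := card_le_iterate h hcrit hx hxA k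
  rw [hb, Subgroup.card_bot, mul_one] at h1
  have h2 : p * Nat.card A = p * (Nat.card (ctr S) * p ^ (k + 1)) := by
    rw [← card_S h, hZ]; ring
  rw [Nat.eq_of_mul_eq_mul_left hp.out.pos h2] at h1
  have := Nat.le_of_mul_le_mul_left h1 Nat.card_pos
  exact absurd this (not_le.mpr (Nat.pow_lt_pow_right hp.out.one_lt (by omega)))

theorem index_sup_derived :
    ((ctr S ⊔ (commutator ↥S).map S.subtype).subgroupOf A).index = p := by
  obtain ⟨x, hx, hxA⟩ := exists_not_mem h
  rw [derived_eq h hx hxA]
  set D := img x A with hD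
  have hDA : D ≤ A := img_le h hx le_rfl
  set U := ctr S ⊔ D with hU
  have hUA : U ≤ A := sup_le (ctr_le h) hDA
  haveI := finite_A h
  haveI : Finite U := Fusion.finite_of_le (hUA.trans h.le)
  have himg : img x U = img x D := by
    refine le_antisymm ((Subgroup.closure_le _).mpr ?_) (img_mono le_sup_right)
    rintro _ ⟨u, hu, rfl⟩
    rw [hU, ← SetLike.mem_coe, Subgroup.coe_mul_of_left_le_normalizer_right (ctr S) D
      (fun z hz => Subgroup.mem_normalizer_iff.mpr fun d => by
        have e : ∀ d ∈ S, z * d * z⁻¹ = d := fun d hd => by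
          rw [← ctr_comm hz hd, mul_inv_cancel_right]
        refine ⟨fun hd => by rw [e d (h.le (hDA hd))]; exact hd, fun hd => ?_⟩
        have hdS : d ∈ S := by
          have := S.mul_mem (S.mul_mem (S.inv_mem hz.1) (h.le (hDA hd))) hz.1
          simpa [mul_assoc] using this
        rwa [e d hdS] at hd)] at hu
    obtain ⟨z, hz, d, hd, rfl⟩ := hu
    rw [comm_mul h (ctr_le h hz) (hDA hd) hx, comm_ctr h hz hx, one_mul]
    exact comm_mem_img hd
  have h1 := Subgroup.card_mul_index (U.subgroupOf A)
  rw [card_subgroupOf, inf_eq_left.mpr hUA, card_img_A h hx hxA, card_img h hx hxA hDA,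
    card_ctr_inf_img h hcrit hx hxA, card_img h hx hxA hUA,
    inf_eq_left.mpr (le_sup_left : ctr S ≤ U), himg] at h1
  haveI : Finite (img x D) := Fusion.finite_of_le ((img_le h hx hDA).trans h.le)
  exact Nat.eq_of_mul_eq_mul_left (Nat.mul_pos Nat.card_pos Nat.card_pos)
    (h1.trans (by ring))

theorem index_ctr_ctr2 : ((ctr S).subgroupOf (ctr2 S)).index = p := by
  have h1 := Subgroup.card_mul_index ((ctr S).subgroupOf (ctr2 S))
  rw [card_subgroupOf, inf_eq_left.mpr (ctr_le_ctr2 S)] at h1
  have h2 : Nat.card (ctr2 S) = p * Nat.card (ctr S) := by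
    rw [← hcrit, inf_eq_left.mpr (ctr2_le h hcrit)]
  rw [h2, mul_comm p] at h1
  exact Nat.eq_of_mul_eq_mul_left Nat.card_pos h1

end Cfsg.Agent.AbelianIndexP
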